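import Cfsg.Agent.MaxSub.LagrangianPairMax
import Cfsg.Agent.MaxSub.SymplecticSubspace
import Cfsg.Agent.StdBasis.Basic

/-!
# Pairs of complementary Lagrangian subspaces in symplectic spaces of dimension at least six

An overgroup of the stabiliser either has a transvection with centre in one of the two members or
permutes the two members.
-/

set_option autoImplicit false
set_option linter.unusedSectionVars false

namespace CfsgLib.SpSix

open Matrix Cfsg.Geo CfsgLib.MaxSub CfsgLib.MaxSub.LPair CfsgLib.AschbacherForms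
open scoped MatrixGroups

variable {F : Type*} [Field F] [Fintype F] {m : ℕ}

local notation "ι" => (Fin m ⊕ Fin m)
local notation "V" => (Fin m ⊕ Fin m → F)
local notation "ω" => Cfsg.sympForm m F
local notation "Mat" => Matrix (Fin m ⊕ Fin m) (Fin m ⊕ Fin m) F

theorem reflexive : IsReflexive (RingEquiv.refl F) (-1 : F) (ω : V → V → F) :=
  isReflexive_symplectic isSymplecticForm_sympForm

theorem w_add_left (x y z : V) : ω (x + y) z = ω x z + ω y z := sesq_sympForm.add_left x y z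

theorem w_add_right (x y z : V) : ω x (y + z) = ω x y + ω x z := sesq_sympForm.add_right x y z

theorem w_sub_left (x y z : V) : ω (x - y) z = ω x z - ω y z := sesq_sympForm.sub_left x y z

theorem w_sub_right (x y z : V) : ω x (y - z) = ω x y - ω x z := sesq_sympForm.sub_right x y z

theorem w_smul_left (c : F) (x y : V) : ω (c • x) y = c * ω x y := sesq_sympForm.smul_left c x y

theorem w_smul_right (c : F) (x y : V) : ω x (c • y) = c * ω x y := sesq_sympForm.smul_right c x y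

theorem w_self (x : V) : ω x x = 0 := Forms.sympForm_self x

theorem w_orth {x y : V} (h : ω x y = 0) : ω y x = 0 := by rw [Forms.sympForm_swap, h, neg_zero]

theorem gl_ext {g h : GL (Fin m ⊕ Fin m) F} (hgh : ∀ x, (g : Mat) *ᵥ x = (h : Mat) *ᵥ x) : g = h :=
  Units.ext (Matrix.ext_iff_mulVec.2 hgh)

/-- The short root element of an orthogonal pair of vectors. -/
def IsS (g : GL (Fin m ⊕ Fin m) F) (v a : V) : Prop :=
  ∀ x, (g : Mat) *ᵥ x = x + ω x v • a + ω x a • v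

theorem IsS.symm {g : GL (Fin m ⊕ Fin m) F} {v a : V} (h : IsS g v a) : IsS g a v := fun x => by
  rw [h x]; abel

theorem IsS.conj {g h : GL (Fin m ⊕ Fin m) F} (hg : g ∈ Cfsg.spGL m F) {v a : V} (hh : IsS h v a) :
    IsS (g * h * g⁻¹) ((g : Mat) *ᵥ v) ((g : Mat) *ᵥ a) := fun x => by
  have e : ∀ w, ω (((g⁻¹ : GL (Fin m ⊕ Fin m) F) : Mat) *ᵥ x) w = ω x ((g : Mat) *ᵥ w) := fun w => by
    rw [← mem_spGL_iff.mp hg, mulVec_mulVec, Units.mul_inv, one_mulVec]
  rw [Units.val_mul, Units.val_mul, ← mulVec_mulVec, ← mulVec_mulVec, hh, e, e, mulVec_add, mulVec_add,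
    mulVec_smul, mulVec_smul, mulVec_mulVec, Units.mul_inv, one_mulVec]

theorem finrank_inf_perp (A : Submodule F V) (p : V) :
    Module.finrank F A ≤ Module.finrank F ↥(A ⊓ sPerp (Submodule.span F {p})) + 1 := by
  have h1 := finrank_sPerp (Submodule.span F {p})
  have h2 := Submodule.finrank_sup_add_finrank_inf_eq A (sPerp (Submodule.span F {p}))
  have h3 := Submodule.finrank_le (A ⊔ sPerp (Submodule.span F {p}))
  have h4 : Module.finrank F (Submodule.span F {p}) ≤ 1 := by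
    rcases eq_or_ne p 0 with rfl | hp
    · rw [Submodule.span_zero_singleton, finrank_bot]; exact zero_le_one
    · rw [finrank_span_singleton hp]
  rw [Module.finrank_pi, Fintype.card_sum, Fintype.card_fin] at h3
  omega

theorem mem_perp_single {p x : V} (h : x ∈ sPerp (Submodule.span F {p})) : ω x p = 0 :=
  h p (Submodule.mem_span_singleton_self p)

theorem exists_notMem_line {A : Submodule F V} (hA : 2 ≤ Module.finrank F A) (p : V) :
    ∃ a ∈ A, a ∉ Submodule.span F {p} := by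
  by_contra h
  push Not at h
  have h1 := Submodule.finrank_mono (h : A ≤ _)
  have h4 : Module.finrank F (Submodule.span F {p}) ≤ 1 := by
    rcases eq_or_ne p 0 with rfl | hp
    · rw [Submodule.span_zero_singleton, finrank_bot]; exact zero_le_one
    · rw [finrank_span_singleton hp]
  omega

theorem notMem_line_symm {a p : V} (ha : a ∉ Submodule.span F {p}) (hp : p ≠ 0) :
    p ∉ Submodule.span F {a} := fun h => by
  obtain ⟨c, hc⟩ := Submodule.mem_span_singleton.mp h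
  have hc0 : c ≠ 0 := fun h0 => hp (by rw [← hc, h0, zero_smul])
  exact ha (Submodule.mem_span_singleton.mpr ⟨c⁻¹, by rw [← hc, inv_smul_smul₀ hc0]⟩)

/-- The component in `X` of a vector orthogonal to `x^⊥ ∩ Y` is a multiple of `x`. -/
theorem mem_line {X Y : Submodule F V} (hp : IsPair ω X Y) {x eX eY : V} (hx : x ∈ X) (heX : eX ∈ X)
    (heY : eY ∈ Y) (h : ∀ η ∈ Y, ω x η = 0 → ω (eX + eY) η = 0) : eX ∈ Submodule.span F {x} := by
  by_contra hne
  obtain ⟨η, hη, h1, h0⟩ := exists_sep reflexive hp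
    ((Submodule.span_singleton_le_iff_mem _ _).mpr hx) heX hne
  have h' := h η hη (h0 x (Submodule.mem_span_singleton_self x))
  rw [w_add_left, hp.right eY heY η hη, add_zero, h1] at h'
  exact one_ne_zero h'

/-- A non-trivial transvection with centre in one of the members. -/
def Small (M : Subgroup (GL (Fin m ⊕ Fin m) F)) (X Y : Submodule F V) : Prop :=
  ∃ z : V, (z ∈ X ∨ z ∈ Y) ∧ z ≠ 0 ∧ ∃ c : F, c ≠ 0 ∧ spTv z c ∈ M

theorem Small.symm {M : Subgroup (GL (Fin m ⊕ Fin m) F)} {X Y : Submodule F V} (h : Small M X Y) :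
    Small M Y X := by
  obtain ⟨z, hz, h⟩ := h
  exact ⟨z, hz.symm, h⟩

variable {M : Subgroup (GL (Fin m ⊕ Fin m) F)} {X Y : Submodule F (Fin m ⊕ Fin m → F)}

theorem exists_S (hp : IsPair ω X Y) (hfix : FixIn (Cfsg.spGL m F) M X Y) {v a : V} (hv : v ∈ X)
    (ha : a ∈ Y) (hva : ω v a = 0) : ∃ h ∈ M, h ∈ Cfsg.spGL m F ∧ IsS h v a := by
  obtain ⟨g, hg, hgX, hgY, hga⟩ :=
    exists_eich_fix reflexive (K := Cfsg.spGL m F) (fun g hg _ => mem_spGL_iff.mpr hg) hp hv ha hva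
  refine ⟨g, hfix g hg hgX hgY, hg, fun x => ?_⟩
  rw [hga, map_neg, map_one, neg_one_mul, neg_smul, sub_neg_eq_add]

theorem small_of_comm (h2 : (2 : F) ≠ 0) (hp : IsPair ω X Y) (hfix : FixIn (Cfsg.spGL m F) M X Y)
    {x y η e : V} (hx : x ∈ X) (hx0 : x ≠ 0) (hy : y ∈ Y) (hxy : ω x y = 0) (hη : η ∈ Y)
    (hxη : ω x η = 0) {A : GL (Fin m ⊕ Fin m) F} (hA : A ∈ M) (hAS : IsS A (x + y) e)
    (hex : ω e x = 0) (heu : ω e (x + y) = 0) (ht : ω e η ≠ 0) : Small M X Y := by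
  obtain ⟨B, hB, hBK, hBS⟩ := exists_S hp hfix hx hη hxη
  obtain ⟨C, hC, -, hCS⟩ := exists_S hp hfix (X.smul_mem (ω e η) hx) hy
    (by rw [w_smul_left, hxy, mul_zero])
  have hyx := w_orth hxy
  have hyη : ω y η = 0 := hp.right y hy η hη
  have hey : ω e y = 0 := by rwa [w_add_right, hex, zero_add] at heu
  have hBu : (B : Mat) *ᵥ (x + y) = x + y := by
    rw [hBS]; simp [w_add_left, w_self, hyx, hyη, hxη]
  have hBe : (B : Mat) *ᵥ e = e + ω e η • x := by
    rw [hBS]; simp [hex]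
  have hK := hAS.conj hBK (g := B)
  rw [hBu, hBe] at hK
  have key : B * A * B⁻¹ = spTv x (2 * ω e η) * C * A := gl_ext fun z => by
    rw [hK, Units.val_mul, Units.val_mul, ← mulVec_mulVec, ← mulVec_mulVec, hAS, hCS, spTv_mulVec]
    simp only [w_add_left, w_add_right, w_smul_left, w_smul_right, w_self, hxy, hyx, hex, hey,
      mul_zero, add_zero]
    match_scalars <;> ring
  refine ⟨x, Or.inl hx, hx0, 2 * ω e η, mul_ne_zero h2 ht, ?_⟩
  rw [show spTv x (2 * ω e η) = B * A * B⁻¹ * A⁻¹ * C⁻¹ by rw [key]; group]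
  exact M.mul_mem (M.mul_mem (M.mul_mem (M.mul_mem hB hA) (M.inv_mem hB)) (M.inv_mem hA)) (M.inv_mem hC)

theorem small_of_two (h2 : (2 : F) ≠ 0) (hm : 3 ≤ m) (hp : IsPair ω X Y) (hdim : Module.finrank F X = m)
    (hfix : FixIn (Cfsg.spGL m F) M X Y) {x y : V} (hx : x ∈ X) (hy : y ∈ Y) (hx0 : x ≠ 0)
    (hxy : ω x y = 0) {a b : F} (ha : a ≠ 0) (hM : spTv x a * spTv y b ∈ M) : Small M X Y := by
  obtain ⟨x₁, ⟨hx₁, hx₁y⟩, hx₁x⟩ := exists_notMem_line
    (A := X ⊓ sPerp (Submodule.span F {y})) (by have := finrank_inf_perp X y; omega) x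
  have hx₁y' : ω x₁ y = 0 := mem_perp_single hx₁y
  have hx₁0 : x₁ ≠ 0 := fun h => hx₁x (h ▸ Submodule.zero_mem _)
  obtain ⟨η, hη, hxη, h0⟩ := exists_sep reflexive hp
    ((Submodule.span_singleton_le_iff_mem _ _).mpr hx₁) hx (notMem_line_symm hx₁x hx0)
  have hx₁η : ω x₁ η = 0 := h0 x₁ (Submodule.mem_span_singleton_self x₁)
  obtain ⟨h, hh, hhK, hhS⟩ := exists_S hp hfix hx₁ hη hx₁η
  have hxx₁ : ω x x₁ = 0 := hp.left x hx x₁ hx₁
  have hyx := w_orth hxy
  have hyx₁ := w_orth hx₁y'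
  have hx₁x' : ω x₁ x = 0 := hp.left x₁ hx₁ x hx
  have e1 : (h : Mat) *ᵥ x = x + x₁ := by rw [hhS, hxx₁, hxη]; simp
  have e2 : (h : Mat) *ᵥ x₁ = x₁ := by rw [hhS, w_self, hx₁η]; simp
  have e3 : (h : Mat) *ᵥ y = y := by rw [hhS, hyx₁, hp.right y hy η hη]; simp
  set E := spTv x a * spTv y b with hE
  have hE1 : h * E * h⁻¹ = spTv (x + x₁) a * spTv y b := by
    rw [hE, ← e1, show h * (spTv x a * spTv y b) * h⁻¹ = h * spTv x a * h⁻¹ * (h * spTv y b * h⁻¹) by group,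
      conj_spTv hhK, conj_spTv hhK, e3]
  have hE2 : h * (h * E * h⁻¹) * h⁻¹ = spTv (x + x₁ + x₁) a * spTv y b := by
    rw [hE1, show h * (spTv (x + x₁) a * spTv y b) * h⁻¹ =
        h * spTv (x + x₁) a * h⁻¹ * (h * spTv y b * h⁻¹) by group,
      conj_spTv hhK, conj_spTv hhK, e3, mulVec_add, e1, e2]
  have key : E * (h * (h * E * h⁻¹) * h⁻¹) = spTv x₁ (2 * a) * (h * E * h⁻¹) * (h * E * h⁻¹) :=
    gl_ext fun z => by
      rw [hE2, hE1, hE]
      simp only [Units.val_mul, ← mulVec_mulVec, spTv_mulVec]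
      simp only [w_add_left, w_add_right, w_smul_left, w_self, hxy, hyx, hxx₁, hx₁x', hx₁y', hyx₁,
        mul_zero, add_zero]
      match_scalars <;> ring
  have hE' : h * E * h⁻¹ ∈ M := M.mul_mem (M.mul_mem hh hM) (M.inv_mem hh)
  refine ⟨x₁, Or.inl hx₁, hx₁0, 2 * a, mul_ne_zero h2 ha, ?_⟩
  rw [show spTv x₁ (2 * a) = E * (h * (h * E * h⁻¹) * h⁻¹) * (h * E * h⁻¹)⁻¹ * (h * E * h⁻¹)⁻¹ by
    rw [key]; group]
  exact M.mul_mem (M.mul_mem (M.mul_mem hM (M.mul_mem (M.mul_mem hh hE') (M.inv_mem hh)))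
    (M.inv_mem hE')) (M.inv_mem hE')

/-- A member vector moved to a singular vector with two components gives a transvection. -/
theorem small_of_mixed (h2 : (2 : F) ≠ 0) (hm : 3 ≤ m) (hp : IsPair ω X Y)
    (hdim : Module.finrank F X = m) (hfix : FixIn (Cfsg.spGL m F) M X Y) (hMK : M ≤ Cfsg.spGL m F)
    {g : GL (Fin m ⊕ Fin m) F} (hg : g ∈ M) {v x y : V} (hv : v ∈ X) (hx : x ∈ X) (hx0 : x ≠ 0)
    (hy : y ∈ Y) (hy0 : y ≠ 0) (hxy : ω x y = 0) (hgv : (g : Mat) *ᵥ v = x + y) : Small M X Y := by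
  have hdY : Module.finrank F Y = m := by rw [← finrank_right reflexive hp, hdim]
  obtain ⟨e₀, ⟨⟨he₀, he₀v⟩, he₀w⟩, he₀0⟩ := Submodule.exists_mem_ne_zero_of_ne_bot
    (p := Y ⊓ sPerp (Submodule.span F {v}) ⊓
      sPerp (Submodule.span F {((g⁻¹ : GL (Fin m ⊕ Fin m) F) : Mat) *ᵥ x})) fun h => by
      have h1 := finrank_inf_perp (Y ⊓ sPerp (Submodule.span F {v}))
        (((g⁻¹ : GL (Fin m ⊕ Fin m) F) : Mat) *ᵥ x)
      have h3 := finrank_inf_perp Y v
      rw [h, finrank_bot] at h1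
      omega
  have hve₀ : ω v e₀ = 0 := w_orth (mem_perp_single he₀v)
  obtain ⟨H, hH, -, hHS⟩ := exists_S hp hfix hv he₀ hve₀
  have hAS := hHS.conj (hMK hg)
  rw [hgv] at hAS
  have hA : g * H * g⁻¹ ∈ M := M.mul_mem (M.mul_mem hg hH) (M.inv_mem hg)
  set e := (g : Mat) *ᵥ e₀ with he
  have hgi := mem_spGL_iff.mp (hMK hg)
  have heu : ω e (x + y) = 0 := by rw [← hgv, he, hgi, w_orth hve₀]
  have hex : ω e x = 0 := by
    have := hgi e₀ (((g⁻¹ : GL (Fin m ⊕ Fin m) F) : Mat) *ᵥ x)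
    rwa [mulVec_mulVec, Units.mul_inv, one_mulVec, mem_perp_single he₀w] at this
  have hey : ω e y = 0 := by rwa [w_add_right, hex, zero_add] at heu
  by_cases c1 : ∃ η ∈ Y, ω x η = 0 ∧ ω e η ≠ 0
  · obtain ⟨η, hη, hxη, ht⟩ := c1
    exact small_of_comm h2 hp hfix hx hx0 hy hxy hη hxη hA hAS hex heu ht
  by_cases c2 : ∃ ξ ∈ X, ω y ξ = 0 ∧ ω e ξ ≠ 0
  · obtain ⟨ξ, hξ, hyξ, ht⟩ := c2
    rw [add_comm] at hAS heu
    exact (small_of_comm h2 hp.symm hfix.symm hy hy0 hx (w_orth hxy) hξ hyξ hA hAS hey heu ht).symm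
  push Not at c1 c2
  obtain ⟨eX, heX, eY, heY, hsum⟩ := hp.decomp e
  obtain ⟨α, rfl⟩ := Submodule.mem_span_singleton.mp
    (mem_line hp hx heX heY fun η hη h => by rw [hsum]; exact c1 η hη h)
  obtain ⟨β, rfl⟩ := Submodule.mem_span_singleton.mp
    (mem_line hp.symm hy heY heX fun ξ hξ h => by rw [add_comm, hsum]; exact c2 ξ hξ h)
  obtain ⟨C, hC, -, hCS⟩ := exists_S hp hfix (X.smul_mem (α + β) hx) hy
    (by rw [w_smul_left, hxy, mul_zero])
  have hyx := w_orth hxy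
  have key : g * H * g⁻¹ = C * (spTv x (2 * α) * spTv y (2 * β)) := gl_ext fun z => by
    rw [hAS, Units.val_mul, Units.val_mul, ← mulVec_mulVec, ← mulVec_mulVec, hCS, spTv_mulVec,
      spTv_mulVec, ← hsum]
    simp only [w_add_left, w_add_right, w_smul_left, w_smul_right, w_self, hxy, hyx, mul_zero, add_zero]
    match_scalars <;> ring
  have hT : spTv x (2 * α) * spTv y (2 * β) ∈ M := by
    rw [show spTv x (2 * α) * spTv y (2 * β) = C⁻¹ * (g * H * g⁻¹) by rw [key]; group]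
    exact M.mul_mem (M.inv_mem hC) hA
  rcases eq_or_ne α 0 with rfl | hα
  · have hβ : β ≠ 0 := fun h => he₀0 (by
      refine mulVec_injective_iff_isUnit.mpr g.isUnit ?_
      show (g : Mat) *ᵥ e₀ = (g : Mat) *ᵥ 0
      rw [mulVec_zero, ← he, ← hsum, h, zero_smul, zero_smul, add_zero])
    refine ⟨y, Or.inr hy, hy0, 2 * β, mul_ne_zero h2 hβ, ?_⟩
    have e1 : spTv x (2 * (0 : F)) = 1 := by rw [mul_zero, spTv, zero_smul, tv_zero_left]
    rwa [e1, one_mul] at hT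
  · exact small_of_two h2 hm hp hdim hfix hx hy hx0 hxy (mul_ne_zero h2 hα) hT

/-- If a member vector stays in its member then so does the opposite orthogonal part. -/
theorem mapsTo_opposite (h2 : (2 : F) ≠ 0) (hm : 3 ≤ m) (hp : IsPair ω X Y)
    (hdim : Module.finrank F X = m) (hfix : FixIn (Cfsg.spGL m F) M X Y) (hMK : M ≤ Cfsg.spGL m F)
    (hS : ¬ Small M X Y) {g : GL (Fin m ⊕ Fin m) F} (hg : g ∈ M) {v η : V} (hv : v ∈ X) (hv0 : v ≠ 0)
    (hgv : (g : Mat) *ᵥ v ∈ X) (hη : η ∈ Y) (hvη : ω v η = 0) : (g : Mat) *ᵥ η ∈ Y := by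
  set u := (g : Mat) *ᵥ v with hu
  set e := (g : Mat) *ᵥ η with he
  have hgi := mem_spGL_iff.mp (hMK hg)
  have hue : ω u e = 0 := by rw [hu, he, hgi, hvη]
  have heu := w_orth hue
  have hu0 : u ≠ 0 := fun h => hv0 (mulVec_injective_iff_isUnit.mpr g.isUnit (by
    show (g : Mat) *ᵥ v = (g : Mat) *ᵥ 0
    rw [mulVec_zero, ← hu, h]))
  obtain ⟨H, hH, -, hHS⟩ := exists_S hp hfix hv hη hvη
  have hAS := hHS.conj (hMK hg)
  rw [← hu, ← he] at hAS
  have hA : g * H * g⁻¹ ∈ M := M.mul_mem (M.mul_mem hg hH) (M.inv_mem hg)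
  have horth : ∀ η' ∈ Y, ω u η' = 0 → ω e η' = 0 := by
    intro η' hη' huη'
    by_contra ht
    obtain ⟨B, hB, hBK, hBS⟩ := exists_S hp hfix hgv hη' huη'
    have hBu : (B : Mat) *ᵥ u = u := by rw [hBS]; simp [w_self, huη']
    have hBe : (B : Mat) *ᵥ e = e + ω e η' • u := by rw [hBS]; simp [heu]
    have hK := hAS.conj hBK (g := B)
    rw [hBu, hBe] at hK
    have key : B * (g * H * g⁻¹) * B⁻¹ = spTv u (2 * ω e η') * (g * H * g⁻¹) := gl_ext fun z => by
      rw [hK, Units.val_mul, ← mulVec_mulVec, hAS, spTv_mulVec]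
      simp only [w_add_left, w_add_right, w_smul_left, w_smul_right, w_self, heu, mul_zero, add_zero]
      match_scalars <;> ring
    refine hS ⟨u, Or.inl hgv, hu0, 2 * ω e η', mul_ne_zero h2 ht, ?_⟩
    rw [show spTv u (2 * ω e η') = B * (g * H * g⁻¹) * B⁻¹ * (g * H * g⁻¹)⁻¹ by rw [key]; group]
    exact M.mul_mem (M.mul_mem (M.mul_mem hB hA) (M.inv_mem hB)) (M.inv_mem hA)
  obtain ⟨eX, heX, eY, heY, hsum⟩ := hp.decomp e
  obtain ⟨α, rfl⟩ := Submodule.mem_span_singleton.mp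
    (mem_line hp hgv heX heY fun η' hη' h => by rw [hsum]; exact horth η' hη' h)
  rcases eq_or_ne α 0 with rfl | hα
  · rw [← hsum, zero_smul, zero_add]; exact heY
  by_cases hY0 : eY = 0
  · have h1 : η = α • v := mulVec_injective_iff_isUnit.mpr g.isUnit (by
      show (g : Mat) *ᵥ η = (g : Mat) *ᵥ (α • v)
      rw [mulVec_smul, ← hu, ← he, ← hsum, hY0, add_zero])
    have h0 : η = 0 := hp.disjoint (h1 ▸ X.smul_mem α hv) hη
    rw [he, h0, mulVec_zero]; exact Y.zero_mem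
  exfalso
  have hdY : Module.finrank F Y = m := by rw [← finrank_right reflexive hp, hdim]
  have hYu : ω eY u = 0 := by
    have h := heu
    rw [← hsum, w_add_left, w_smul_left, w_self, mul_zero, zero_add] at h
    exact h
  refine hS (small_of_mixed h2 hm hp.symm hdY hfix.symm hMK hg hη heY hY0 (X.smul_mem α hgv)
    (smul_ne_zero hα hu0) (by rw [w_smul_right, hYu, mul_zero]) ?_).symm
  rw [← he, ← hsum, add_comm]

/-- A vector of `Y` is a sum of vectors orthogonal to two independent vectors of `X`. -/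
theorem exists_split (hp : IsPair ω X Y) {p₁ p₂ : V} (h₁ : p₁ ∈ X) (h₂ : p₂ ∈ X)
    (hind : p₂ ∉ Submodule.span F {p₁}) {y : V} (hy : y ∈ Y) :
    ∃ a ∈ Y, ∃ b ∈ Y, ω p₁ a = 0 ∧ ω p₂ b = 0 ∧ a + b = y := by
  obtain ⟨w, hw, hw1, hw0⟩ := exists_sep reflexive hp
    ((Submodule.span_singleton_le_iff_mem _ _).mpr h₁) h₂ hind
  refine ⟨ω p₂ y • w, Y.smul_mem _ hw, y - ω p₂ y • w, Y.sub_mem hy (Y.smul_mem _ hw), ?_, ?_, by abel⟩
  · rw [w_smul_right, hw0 p₁ (Submodule.mem_span_singleton_self p₁), mul_zero]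
  · rw [w_sub_right, w_smul_right, hw1, mul_one, sub_self]

theorem mapsTo_both (h2 : (2 : F) ≠ 0) (hm : 3 ≤ m) (hp : IsPair ω X Y)
    (hdim : Module.finrank F X = m) (hfix : FixIn (Cfsg.spGL m F) M X Y) (hMK : M ≤ Cfsg.spGL m F)
    (hS : ¬ Small M X Y) {g : GL (Fin m ⊕ Fin m) F} (hg : g ∈ M) {v : V} (hv : v ∈ X) (hv0 : v ≠ 0)
    (hgv : (g : Mat) *ᵥ v ∈ X) :
    (∀ x ∈ X, (g : Mat) *ᵥ x ∈ X) ∧ ∀ y ∈ Y, (g : Mat) *ᵥ y ∈ Y := by
  have hdY : Module.finrank F Y = m := by rw [← finrank_right reflexive hp, hdim]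
  have hS' : ¬ Small M Y X := fun h => hS h.symm
  have hX : ∀ x ∈ X, (g : Mat) *ᵥ x ∈ X := by
    intro x hx
    have hd2 : 2 ≤ Module.finrank F ↥(Y ⊓ sPerp (Submodule.span F {v})) := by
      have := finrank_inf_perp Y v; omega
    obtain ⟨η₁, hη₁, hη₁0⟩ := exists_notMem_line hd2 (0 : V)
    obtain ⟨η₂, hη₂, hη₂1⟩ := exists_notMem_line hd2 η₁
    have hη₁n : η₁ ≠ 0 := fun h => hη₁0 (by rw [h]; exact Submodule.zero_mem _)
    have hη₂n : η₂ ≠ 0 := fun h => hη₂1 (h ▸ Submodule.zero_mem _)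
    have key : ∀ η ∈ Y ⊓ sPerp (Submodule.span F {v}), η ≠ 0 → ∀ ξ ∈ X, ω η ξ = 0 →
        (g : Mat) *ᵥ ξ ∈ X := fun η hη hη0 ξ hξ h =>
      mapsTo_opposite h2 hm hp.symm hdY hfix.symm hMK hS' hg hη.1 hη0
        (mapsTo_opposite h2 hm hp hdim hfix hMK hS hg hv hv0 hgv hη.1
          (w_orth (mem_perp_single hη.2))) hξ h
    obtain ⟨a, ha, b, hb, ha1, hb2, rfl⟩ := exists_split hp.symm hη₁.1 hη₂.1 hη₂1 hx
    rw [mulVec_add]
    exact X.add_mem (key η₁ hη₁ hη₁n a ha ha1) (key η₂ hη₂ hη₂n b hb hb2)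
  refine ⟨hX, fun y hy => ?_⟩
  obtain ⟨v₂, hv₂, hv₂v⟩ := exists_notMem_line (A := X) (by omega) v
  obtain ⟨a, ha, b, hb, ha1, hb2, rfl⟩ := exists_split hp hv hv₂ hv₂v hy
  rw [mulVec_add]
  exact Y.add_mem (mapsTo_opposite h2 hm hp hdim hfix hMK hS hg hv hv0 hgv ha ha1)
    (mapsTo_opposite h2 hm hp hdim hfix hMK hS hg hv₂
      (fun h => hv₂v (h ▸ Submodule.zero_mem _)) (hX v₂ hv₂) hb hb2)

/-- Without such transvections every element permutes the members. -/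
theorem permutes_of_not_small (h2 : (2 : F) ≠ 0) (hm : 3 ≤ m) (hp : IsPair ω X Y)
    (hdim : Module.finrank F X = m) (hfix : FixIn (Cfsg.spGL m F) M X Y) (hMK : M ≤ Cfsg.spGL m F)
    (hS : ¬ Small M X Y) {J : GL (Fin m ⊕ Fin m) F} (hJ : J ∈ M)
    (hJX : ∀ x ∈ X, (J : Mat) *ᵥ x ∈ Y) (hJY : ∀ y ∈ Y, (J : Mat) *ᵥ y ∈ X)
    {g : GL (Fin m ⊕ Fin m) F} (hg : g ∈ M) :
    ((∀ x ∈ X, (g : Mat) *ᵥ x ∈ X) ∧ ∀ y ∈ Y, (g : Mat) *ᵥ y ∈ Y) ∨
      ((∀ x ∈ X, (g : Mat) *ᵥ x ∈ Y) ∧ ∀ y ∈ Y, (g : Mat) *ᵥ y ∈ X) := by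
  let P : V →ₗ[F] V := X.projection Y hp.compl
  let A : V →ₗ[F] V := (g : Mat).mulVecLin
  let B : X →ₗ[F] X →ₗ[F] F := LinearMap.mk₂ F (fun a b => ω (P (A a)) (A b))
    (fun a a' b => by rw [Submodule.coe_add, map_add, map_add, w_add_left])
    (fun c a b => by rw [Submodule.coe_smul, map_smul, map_smul, w_smul_left, smul_eq_mul])
    (fun a b b' => by rw [Submodule.coe_add, map_add, w_add_right])
    (fun c a b => by rw [Submodule.coe_smul, map_smul, w_smul_right, smul_eq_mul])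
  obtain ⟨⟨v, hv⟩, hv0, hQv⟩ : ∃ v : X, v ≠ 0 ∧ B v v = 0 := by
    let Q : QuadraticForm F X := LinearMap.BilinMap.toQuadraticMap B
    by_cases hsep : ∀ a, (∀ b, QuadraticMap.polar (⇑Q) a b = 0) → a = 0
    · obtain ⟨z, hz, hz'⟩ := StdBasis.exists_isotropic Q hsep (by omega)
      exact ⟨z, hz, hz'⟩
    · push Not at hsep
      obtain ⟨a, ha, ha0⟩ := hsep
      refine ⟨a, ha0, ?_⟩
      have h := ha a
      rw [QuadraticMap.polar_self] at h
      simp only [nsmul_eq_mul, Nat.cast_ofNat] at h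
      exact (mul_eq_zero.mp h).resolve_left h2
  have hv0' : v ≠ 0 := fun h => hv0 (Subtype.ext h)
  obtain ⟨x, hx, y, hy, hgv⟩ := hp.decomp ((g : Mat) *ᵥ v)
  have hPx : P (x + y) = x := by
    show X.projection Y hp.compl (x + y) = x
    rw [map_add, Submodule.projection_apply_of_mem_left hp.compl hx,
      (Submodule.projection_apply_eq_zero_iff hp.compl).mpr hy, add_zero]
  have hxy : ω x y = 0 := by
    have h : ω (P ((g : Mat) *ᵥ v)) ((g : Mat) *ᵥ v) = 0 := hQv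
    rwa [← hgv, hPx, w_add_right, w_self, zero_add] at h
  rcases eq_or_ne y 0 with rfl | hy0
  · exact Or.inl (mapsTo_both h2 hm hp hdim hfix hMK hS hg hv hv0' (by rw [← hgv, add_zero]; exact hx))
  rcases eq_or_ne x 0 with rfl | hx0
  · have hJgv : ((J * g : GL (Fin m ⊕ Fin m) F) : Mat) *ᵥ v ∈ X := by
      rw [Units.val_mul, ← mulVec_mulVec, ← hgv, zero_add]; exact hJY y hy
    obtain ⟨hX', hY'⟩ := mapsTo_both h2 hm hp hdim hfix hMK hS (M.mul_mem hJ hg) hv hv0' hJgv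
    have hinv : ∀ w z : V, (J : Mat) *ᵥ z = w → ∀ W W' : Submodule F V,
        W.map (toLin' (J : Mat)) = W' → w ∈ W' → z ∈ W := by
      intro w z hz W W' hW hw
      rw [← hW] at hw
      obtain ⟨z', hz', he⟩ := hw
      rw [toLin'_apply] at he
      rwa [← mulVec_injective_iff_isUnit.mpr J.isUnit (he.trans hz.symm)]
    have hdY : Module.finrank F Y = m := by rw [← finrank_right reflexive hp, hdim]
    have mX := map_eq_of_le reflexive hJX (by rw [hdim, hdY])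
    have mY := map_eq_of_le reflexive hJY (by rw [hdim, hdY])
    refine Or.inr ⟨fun a ha => ?_, fun a ha => ?_⟩
    · have := hX' a ha
      rw [Units.val_mul, ← mulVec_mulVec] at this
      exact hinv _ _ rfl Y X mY this
    · have := hY' a ha
      rw [Units.val_mul, ← mulVec_mulVec] at this
      exact hinv _ _ rfl X Y mX this
  exact absurd (small_of_mixed h2 hm hp hdim hfix hMK hg hv hx hx0 hy hy0 hxy hgv.symm) hS

/-- A non-trivial transvection with centre in `X` makes all vectors centres. -/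
theorem centreIn_of_tv (h2 : (2 : F) ≠ 0) (hm : 3 ≤ m) (hp : IsPair ω X Y)
    (hdim : Module.finrank F X = m) (hfix : FixIn (Cfsg.spGL m F) M X Y) (hMK : M ≤ Cfsg.spGL m F)
    {J : GL (Fin m ⊕ Fin m) F} (hJ : J ∈ M) (hJX : ∀ x ∈ X, (J : Mat) *ᵥ x ∈ Y)
    {z : V} (hz : z ∈ X) (hz0 : z ≠ 0) {c : F} (hc : c ≠ 0) (hM : spTv z c ∈ M) :
    ∀ v, CentreIn M v := by
  have step : ∀ p ∈ X, ∀ p' ∈ X, p ≠ 0 → p' ∉ Submodule.span F {p} →
      ∃ h ∈ M, (h : Mat) *ᵥ p = p' := by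
    intro p hpX p' hp' hp0 hind
    have hn : p ∉ Submodule.span F {p' - p} := fun h => by
      refine hind ?_
      obtain ⟨d, hd⟩ := Submodule.mem_span_singleton.mp h
      have hd0 : d ≠ 0 := fun h0 => hp0 (by rw [← hd, h0, zero_smul])
      refine Submodule.mem_span_singleton.mpr ⟨1 + d⁻¹, ?_⟩
      rw [add_smul, one_smul]
      nth_rewrite 2 [← hd]
      rw [inv_smul_smul₀ hd0, add_sub_cancel]
    have hd' : p' - p ∈ X := X.sub_mem hp' hpX
    obtain ⟨η, hη, h1, h0⟩ := exists_sep reflexive hp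
      ((Submodule.span_singleton_le_iff_mem _ _).mpr hd') hpX hn
    obtain ⟨h, hh, -, hhS⟩ := exists_S hp hfix hd' hη (h0 _ (Submodule.mem_span_singleton_self _))
    refine ⟨h, hh, ?_⟩
    rw [hhS, h1, hp.left p hpX _ hd', zero_smul, add_zero, one_smul, add_sub_cancel]
  have all : ∀ p ∈ X, p ≠ 0 → spTv p c ∈ M := by
    intro p hpX hp0
    have key : ∀ q, (∃ h ∈ M, (h : Mat) *ᵥ z = q) → spTv q c ∈ M := by
      rintro q ⟨h, hh, rfl⟩
      rw [← conj_spTv (hMK hh)]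
      exact M.mul_mem (M.mul_mem hh hM) (M.inv_mem hh)
    by_cases hind : p ∈ Submodule.span F {z}
    · obtain ⟨q, hq, hqz⟩ := exists_notMem_line (A := X) (by omega) z
      obtain ⟨h₁, hh₁, e₁⟩ := step z hz q hq hz0 hqz
      obtain ⟨d, rfl⟩ := Submodule.mem_span_singleton.mp hind
      have hpq : d • z ∉ Submodule.span F {q} := fun h =>
        notMem_line_symm hqz hz0 (by
          have hd : d ≠ 0 := fun h0 => hp0 (by rw [h0, zero_smul])
          simpa [smul_smul, inv_mul_cancel₀ hd] using Submodule.smul_mem _ d⁻¹ h)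
      obtain ⟨h₂, hh₂, e₂⟩ := step q hq _ hpX (fun h => hqz (h ▸ Submodule.zero_mem _)) hpq
      exact key _ ⟨h₂ * h₁, M.mul_mem hh₂ hh₁, by rw [Units.val_mul, ← mulVec_mulVec, e₁, e₂]⟩
    · exact key p (step z hz p hpX hz0 hind)
  have hX : ∀ p ∈ X, CentreIn M p := by
    intro p hpX d
    rcases eq_or_ne p 0 with rfl | hp0
    · exact centreIn_zero M d
    obtain ⟨l, l', rfl⟩ := exists_square_diff h2 hc d
    have hsq : ∀ r : F, spTv p (c * (r * r)) ∈ M := fun r => by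
      rcases eq_or_ne r 0 with rfl | hr
      · simp [spTv, tv_zero_left, M.one_mem]
      · rw [← spTv_smul]; exact all _ (X.smul_mem r hpX) (smul_ne_zero hr hp0)
    have e : spTv p (c * (l * l) - c * (l' * l')) * spTv p (c * (l' * l')) = spTv p (c * (l * l)) :=
      gl_ext fun x => by
        simp only [Units.val_mul, ← mulVec_mulVec, spTv_mulVec, w_add_left, w_smul_left, w_self,
          mul_zero, add_zero]
        match_scalars <;> ring
    rw [show spTv p (c * (l * l) - c * (l' * l')) =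
      spTv p (c * (l * l)) * (spTv p (c * (l' * l')))⁻¹ by rw [← e]; group]
    exact M.mul_mem (hsq l) (M.inv_mem (hsq l'))
  have hY : ∀ y ∈ Y, CentreIn M y := by
    intro y hy
    have hdY : Module.finrank F Y = m := by rw [← finrank_right reflexive hp, hdim]
    rw [← map_eq_of_le reflexive hJX (by rw [hdim, hdY])] at hy
    obtain ⟨x, hx, rfl⟩ := hy
    rw [toLin'_apply]
    exact (hX x hx).map (hMK hJ) hJ
  intro v
  obtain ⟨p, hp1, q, hq, rfl⟩ := hp.decomp v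
  rcases eq_or_ne p 0 with rfl | hp0
  · rw [zero_add]; exact hY q hq
  by_cases hpq : ω p q = 0
  · obtain ⟨q', hq', h1⟩ := exists_pair_one reflexive hp hp1 hp0
    have := ((hX p hp1).add (hY q' hq') (h1 ▸ one_ne_zero)).add (hY _ (Y.sub_mem hq hq')) (by
      rw [w_add_left, w_sub_right, hpq, h1, hp.right q' hq' _ (Y.sub_mem hq hq'), add_zero, zero_sub]
      exact neg_ne_zero.mpr one_ne_zero)
    rwa [add_assoc, add_sub_cancel] at this
  · exact (hX p hp1).add (hY q hq) hpq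

/-- The stabiliser of a pair of complementary Lagrangian subspaces is maximal in `Sp`, in every
dimension at least six. -/
theorem isMaximalIn_spPair (hm : 3 ≤ m) (h2 : (2 : F) ≠ 0)
    {D : Fin 2 → Submodule F V} (hD : IsMDecomposition m D)
    (hts : ∀ i, IsTotallySingularFor ω (D i)) :
    IsMaximalIn (Cfsg.spGL m F) (decompositionStabilizer D ⊓ Cfsg.spGL m F) := by
  have hp := isPair_of hD hts
  have hdim : ∀ i, Module.finrank F (D i) = m := hD.finrank_eq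
  obtain ⟨J, hJiso, hJ0, hJ1⟩ := exists_exchange reflexive hp ⟨Sum.inl ⟨0, by omega⟩⟩
  have hJK : J ∈ Cfsg.spGL m F := mem_spGL_iff.mpr hJiso
  have hstab : ∀ g : GL (Fin m ⊕ Fin m) F,
      ((∀ x ∈ D 0, (g : Mat) *ᵥ x ∈ D 0) ∧ ∀ y ∈ D 1, (g : Mat) *ᵥ y ∈ D 1) ∨
      ((∀ x ∈ D 0, (g : Mat) *ᵥ x ∈ D 1) ∧ ∀ y ∈ D 1, (g : Mat) *ᵥ y ∈ D 0) →
      g ∈ decompositionStabilizer D := by
    rintro g (⟨h0, h1⟩ | ⟨h0, h1⟩)
    · exact ⟨1, fun i => by
        fin_cases i <;> [exact map_eq_of_le reflexive h0 rfl; exact map_eq_of_le reflexive h1 rfl]⟩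
    · exact ⟨Equiv.swap 0 1, fun i => by
        fin_cases i <;> [exact map_eq_of_le reflexive h0 (by rw [hdim, hdim]);
          exact map_eq_of_le reflexive h1 (by rw [hdim, hdim])]⟩
  obtain ⟨a, ha, ha0⟩ := Submodule.exists_mem_ne_zero_of_ne_bot (p := D 0) fun h => by
    have := hdim 0; rw [h, finrank_bot] at this; omega
  obtain ⟨b, hb, hab⟩ := exists_pair_one reflexive hp ha ha0
  refine isMaximalIn_of inf_le_right ⟨spTv a 1, spTv_mem a 1, fun h => ?_⟩ fun M hHM hMK g hg hg' => ?_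
  · obtain ⟨π, hπ⟩ := h.1
    have hmem : (spTv a 1 : Mat) *ᵥ b ∈ D (π 1) := hπ 1 ▸ ⟨b, hb, toLin'_apply _ _⟩
    rw [spTv_mulVec, Forms.sympForm_swap a b, hab, one_mul, neg_one_smul] at hmem
    obtain h0 | h1 : π 1 = 0 ∨ π 1 = 1 := by
      rcases π 1 with ⟨_ | _ | n, hn⟩
      · exact Or.inl rfl
      · exact Or.inr rfl
      · omega
    · rw [h0, Submodule.add_mem_iff_left _ ((D 0).neg_mem ha)] at hmem
      exact ha0 (by
        have hb0 : b = 0 := hp.disjoint hmem hb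
        rw [hb0, reflexive.zero_right] at hab
        exact absurd hab zero_ne_one)
    · rw [h1, Submodule.add_mem_iff_right _ hb] at hmem
      exact ha0 (hp.disjoint ha (by simpa using (D 1).neg_mem hmem))
  have hfix : FixIn (Cfsg.spGL m F) M (D 0) (D 1) :=
    fun h hh h0 h1 => hHM ⟨hstab h (Or.inl ⟨h0, h1⟩), hh⟩
  have hJM : J ∈ M := hHM ⟨hstab J (Or.inr ⟨hJ0, hJ1⟩), hJK⟩
  refine spGL_le_of_forall_spTv fun v c => ?_
  by_cases hS : Small M (D 0) (D 1)
  · obtain ⟨z, hz | hz, hz0, d, hd, hM⟩ := hS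
    · exact centreIn_of_tv h2 hm hp (hdim 0) hfix hMK hJM hJ0 hz hz0 hd hM v c
    · exact centreIn_of_tv h2 hm hp.symm (hdim 1) hfix.symm hMK hJM hJ1 hz hz0 hd hM v c
  · exact absurd ⟨hstab g (permutes_of_not_small h2 hm hp (hdim 0) hfix hMK hS hJM hJ0 hJ1 hg), hMK hg⟩ hg'

end CfsgLib.SpSix
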