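import Cfsg.Agent.SpSix.TensorMain
import Cfsg.Agent.TensorNonmax.Basic

/-!
# `Sp_2 ⊗ O_3` is maximal in `Sp_6` for odd `q ≥ 5`
-/

set_option autoImplicit false
set_option linter.unusedSectionVars false

namespace CfsgLib.SpSix

open Matrix Cfsg.Geo CfsgLib.MaxSub
open scoped MatrixGroups Kronecker

variable {F : Type*} [Field F] [Fintype F]

local notation "W" => (Fin 3 → F)
local notation "V" => (Fin 3 ⊕ Fin 3 → F)
local notation "Mat" => Matrix (Fin 3 ⊕ Fin 3) (Fin 3 ⊕ Fin 3) F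
local notation "e₀" => (Pi.single 0 1 : Fin 2 → F)
local notation "e₁" => (Pi.single 1 1 : Fin 2 → F)

/-- The Kronecker product of two invertible matrices as an element of the tensor stabiliser. -/
theorem exists_tensor_mem (e : (Fin 3 ⊕ Fin 3) ≃ Fin 2 × Fin 3) (P : GL (Fin 3 ⊕ Fin 3) F)
    (A : GL (Fin 2) F) (B : GL (Fin 3) F) :
    ∃ g ∈ tensorProductSubgroup 2 3 e P, ∀ x y, (g : Mat) *ᵥ TensorNonmax.tmul e P x y =
      TensorNonmax.tmul e P ((A : Matrix (Fin 2) (Fin 2) F) *ᵥ x)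
        ((B : Matrix (Fin 3) (Fin 3) F) *ᵥ y) := by
  let K : GL (Fin 2 × Fin 3) F :=
    ⟨(A : Matrix (Fin 2) (Fin 2) F) ⊗ₖ (B : Matrix (Fin 3) (Fin 3) F),
      ((A⁻¹ : GL (Fin 2) F) : Matrix (Fin 2) (Fin 2) F) ⊗ₖ ((B⁻¹ : GL (Fin 3) F) : Matrix (Fin 3) (Fin 3) F),
      by rw [← Matrix.mul_kronecker_mul, Units.mul_inv, Units.mul_inv, Matrix.one_kronecker_one],
      by rw [← Matrix.mul_kronecker_mul, Units.inv_mul, Units.inv_mul, Matrix.one_kronecker_one]⟩
  refine ⟨MulAut.conj P (glReindex e.symm K), ⟨_, ⟨K, ⟨A, B, rfl⟩, rfl⟩, rfl⟩, fun x y => ?_⟩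
  rw [TensorNonmax.tmul_apply, TensorNonmax.tmul_apply, TensorNonmax.conj_reindex_cvec]
  congr 1
  funext ⟨i, j⟩
  show ((A : Matrix (Fin 2) (Fin 2) F) ⊗ₖ (B : Matrix (Fin 3) (Fin 3) F) *ᵥ _) (i, j) = _
  rw [Matrix.mulVec, dotProduct, Fintype.sum_prod_type, Matrix.mulVec, dotProduct, Matrix.mulVec,
    dotProduct, Finset.sum_mul_sum]
  refine Finset.sum_congr rfl fun k _ => Finset.sum_congr rfl fun l _ => ?_
  rw [Matrix.kronecker_apply]
  ring

theorem col_two (A : Matrix (Fin 2) (Fin 2) F) :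
    A *ᵥ e₀ = A 0 0 • e₀ + A 1 0 • e₁ ∧ A *ᵥ e₁ = A 0 1 • e₀ + A 1 1 • e₁ := by
  constructor <;>
    (funext i; fin_cases i <;> simp)

/-- The stabiliser of a tensor decomposition `2 ⊗ 3` is maximal in `Sp_6`. -/
theorem isMaximalIn_spTensor (h2 : (2 : F) ≠ 0) (hq : 5 ≤ Fintype.card F)
    (e : (Fin 3 ⊕ Fin 3) ≃ Fin 2 × Fin 3) (P : GL (Fin 3 ⊕ Fin 3) F)
    (f₁ : (Fin 2 → F) → (Fin 2 → F) → F) (f₂ : (Fin 3 → F) → (Fin 3 → F) → F)
    (hf₁ : IsSymplecticForm f₁) (hf₂ : IsSymmetricForm f₂)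
    (hT : IsTensorFormStructure id (Cfsg.sympForm 3 F) f₁ f₂ e P) :
    IsMaximalIn (Cfsg.spGL 3 F) (tensorProductSubgroup 2 3 e P ⊓ Cfsg.spGL 3 F) := by
  obtain ⟨c, hc, hform⟩ := TensorNonmax.form_tmul hf₁.bilinear hf₂.bilinear hT
  set τ := TensorNonmax.tmul e P with hτ
  have hk : f₁ e₀ e₁ ≠ 0 := by
    intro h
    obtain ⟨-, v, hv⟩ := hf₁.nondegenerate e₀ (by simp)
    apply hv
    have hv' : v = v 0 • e₀ + v 1 • e₁ := by funext i; fin_cases i <;> simp
    rw [hv', hf₁.bilinear.add_right, hf₁.bilinear.smul_right, hf₁.bilinear.smul_right, hf₁.alternating, h]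
    ring
  let L : (W × W) →ₗ[F] V := (τ e₀).coprod (τ e₁)
  have hLinj : Function.Injective L := by
    refine (injective_iff_map_eq_zero L).mpr fun ab h => ?_
    simp only [L, LinearMap.coprod_apply, hτ, TensorNonmax.tmul_apply, ← map_add] at h
    have h' := TensorNonmax.cvec_injective e P (h.trans (map_zero _).symm)
    refine Prod.ext ?_ ?_ <;> funext j
    · have := congrFun h' (0, j)
      simpa using this
    · have := congrFun h' (1, j)
      simpa using this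
  have hdim : Module.finrank F (W × W) = Module.finrank F V := by simp
  let T : TFrame F :=
    { B := LinearMap.mk₂ F (fun x y => c * (f₁ e₀ e₁ * f₂ x y))
        (fun x x' y => by rw [hf₂.bilinear.add_left]; ring)
        (fun k x y => by rw [hf₂.bilinear.smul_left, smul_eq_mul]; ring)
        (fun x y y' => by rw [hf₂.bilinear.add_right]; ring)
        (fun k x y => by rw [hf₂.bilinear.smul_right, smul_eq_mul]; ring)
      symm := fun x y => by simp [hf₂.symm x y]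
      nondeg := fun x hx => by
        obtain ⟨-, y, hy⟩ := hf₂.nondegenerate x hx
        exact ⟨y, by simp [hc, hk]; first | exact hy | (rw [hf₂.symm]; exact hy)⟩
      E := LinearEquiv.ofBijective L
        ⟨hLinj, (LinearMap.injective_iff_surjective_of_finrank_eq_finrank hdim).mp hLinj⟩
      form := fun a b a' b' => by
        show Cfsg.sympForm 3 F (τ e₀ a + τ e₁ b) (τ e₀ a' + τ e₁ b') = _
        simp only [w_add_left, w_add_right,
          hform, LinearMap.mk₂_apply, hf₁.alternating, hf₁.skew e₁ e₀]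
        rw [hf₂.symm a' b]
        ring }
  have hvec : ∀ a b, T.vec a b = τ e₀ a + τ e₁ b := fun a b => rfl
  have hmem : ∀ (g : GL (Fin 3 ⊕ Fin 3) F) (a b r d : F) (σ : W ≃ₗ[F] W), a * d - b * r ≠ 0 →
      (∀ x y, (g : Mat) *ᵥ T.vec x y = T.vec (a • σ x + b • σ y) (r • σ x + d • σ y)) →
      g ∈ tensorProductSubgroup 2 3 e P := by
    intro g a b r d σ hd hg
    obtain ⟨B, hB⟩ := (ExtField.glAut : GL (Fin 3) F ≃* _).surjective σ
    obtain ⟨k, hkm, hkx⟩ := exists_tensor_mem e P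
      (GeneralLinearGroup.mkOfDetNeZero !![a, b; r, d] (by rw [Matrix.det_fin_two_of]; exact hd)) B
    suffices g = k by rwa [this]
    refine gl_ext fun v => ?_
    obtain ⟨x, y, rfl⟩ := T.vec_surj v
    rw [hg, hvec, hvec, mulVec_add, hkx, hkx, ← ExtField.glAut_apply B x, ← ExtField.glAut_apply B y,
      hB, GeneralLinearGroup.val_mkOfDetNeZero, (col_two _).1, (col_two _).2]
    simp only [map_add, map_smul, LinearMap.add_apply, LinearMap.smul_apply, Matrix.of_apply,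
      Matrix.cons_val', Matrix.cons_val_zero, Matrix.cons_val_one, Matrix.cons_val_fin_one,
      Matrix.empty_val', hτ]
    module
  have hform' : ∀ g ∈ tensorProductSubgroup 2 3 e P, ∃ (A : Matrix (Fin 2) (Fin 2) F)
      (σ : W →ₗ[F] W), ∀ x y, (g : Mat) *ᵥ T.vec x y =
        T.vec (A 0 0 • σ x + A 0 1 • σ y) (A 1 0 • σ x + A 1 1 • σ y) := by
    intro g hg
    obtain ⟨A, B, hAB⟩ := TensorNonmax.mem_tensorProductSubgroup hg
    refine ⟨A, Matrix.toLin' (B : Matrix (Fin 3) (Fin 3) F), fun x y => ?_⟩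
    simp only [Matrix.toLin'_apply]
    rw [hvec, hvec, mulVec_add, hAB, hAB, (col_two _).1, (col_two _).2]
    simp only [map_add, map_smul, LinearMap.add_apply, LinearMap.smul_apply, hτ]
    module
  refine isMaximalIn_of inf_le_right ?_ fun M hHM hMK g hg hgH => ?_
  · -- a transvection outside
    obtain ⟨_, d, _, _, _, _, hd, _, _⟩ := T.exists_hyp h2
    obtain ⟨y, hy0, hyd, -⟩ := T.exists_perp d d
    refine ⟨spTv (T.vec d 0) 1, spTv_mem _ _, fun hmem' => ?_⟩
    obtain ⟨A, σ, hA⟩ := hform' _ hmem'.1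
    have h1 := hA 0 d
    have h3 := hA 0 y
    rw [spTv_mulVec, T.form_vec, T.vec_smul, T.vec_add] at h1 h3
    simp only [map_zero, smul_zero, zero_add, add_zero] at h1 h3
    obtain ⟨g1, -⟩ := T.vec_inj h1
    obtain ⟨g3, g4⟩ := T.vec_inj h3
    simp [T.symm d y, hyd] at g3 g4
    have hA1 : A 0 1 = 0 := (smul_eq_zero.mp g3.symm).resolve_right fun h0 => hy0 (by rw [g4, h0, smul_zero])
    rw [hA1, zero_smul] at g1
    simp [hd] at g1
    exact hd (by simp [g1])
  · have hM : T.Over M :=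
      ⟨hMK, fun a b r d hdet σ hσ => by
        obtain ⟨g, hg, hgx⟩ := T.exists_tensor hdet hσ
        exact ⟨g, hHM ⟨hmem g a b r d σ (by rw [hdet]; exact one_ne_zero) hgx, hg⟩, hgx⟩⟩
    refine TFrame.spGL_le_of_over hM h2 hq hg fun ⟨a, b, r, d, σ, hdet, hinj, hgx⟩ => hgH ?_
    exact ⟨hmem g a b r d (LinearEquiv.ofInjectiveEndo σ hinj) hdet (fun x y => by rw [hgx]; rfl),
      hMK hg⟩

end CfsgLib.SpSix
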