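import Cfsg.Agent.SpSix.TensorFrame

/-!
# Overgroups of `Sp_2 ⊗ O_3`: from a short root element with pure centre to all transvections
-/

set_option autoImplicit false
set_option linter.unusedSectionVars false

namespace CfsgLib.SpSix

open Matrix Cfsg.Geo CfsgLib.MaxSub
open scoped MatrixGroups

variable {F : Type*} [Field F] [Fintype F]

local notation "W" => (Fin 3 → F)
local notation "V" => (Fin 3 ⊕ Fin 3 → F)
local notation "ω" => Cfsg.sympForm 3 F
local notation "Mat" => Matrix (Fin 3 ⊕ Fin 3) (Fin 3 ⊕ Fin 3) F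

namespace TFrame

variable (T : TFrame F)

/-- `M` lies in `Sp` and contains all `S ⊗ σ`. -/
structure Over (M : Subgroup (GL (Fin 3 ⊕ Fin 3) F)) : Prop where
  le : M ≤ Cfsg.spGL 3 F
  tensor : ∀ (a b c d : F), a * d - b * c = 1 → ∀ σ : (Fin 3 → F) ≃ₗ[F] (Fin 3 → F), T.IsoW σ →
    ∃ g ∈ M, ∀ x y,
      (g : Matrix (Fin 3 ⊕ Fin 3) (Fin 3 ⊕ Fin 3) F) *ᵥ T.vec x y =
        T.vec (a • σ x + b • σ y) (c • σ x + d • σ y)

/-- A non-trivial transvection with pure centre in `M`. -/
def PureTv (M : Subgroup (GL (Fin 3 ⊕ Fin 3) F)) : Prop :=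
  ∃ w : Fin 3 → F, w ≠ 0 ∧ ∃ c : F, c ≠ 0 ∧ spTv (T.vec w 0) c ∈ M

variable {T}
variable {M : Subgroup (GL (Fin 3 ⊕ Fin 3) F)}

theorem refl_one : T.IsoW (LinearEquiv.refl F (Fin 3 → F)) := fun _ _ => rfl

theorem Over.sl (hM : T.Over M) {a b c d : F} (h : a * d - b * c = 1) :
    ∃ g ∈ M, ∀ x y, (g : Mat) *ᵥ T.vec x y = T.vec (a • x + b • y) (c • x + d • y) :=
  hM.tensor a b c d h (LinearEquiv.refl F _) refl_one

theorem Over.iso (hM : T.Over M) {σ : W ≃ₗ[F] W} (hσ : T.IsoW σ) :
    ∃ g ∈ M, ∀ x y, (g : Mat) *ᵥ T.vec x y = T.vec (σ x) (σ y) := by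
  obtain ⟨g, hg, h⟩ := hM.tensor 1 0 0 1 (by ring) σ hσ
  exact ⟨g, hg, fun x y => by rw [h]; simp⟩

/-- The product of two short root elements with the same first vector. -/
theorem isS_mul_eq {g g' : GL (Fin 3 ⊕ Fin 3) F} {v a a' : V} (hg : IsS g v a) (hg' : IsS g' v a')
    (hva : ω v a = 0) (hva' : ω v a' = 0) (x : V) :
    ((g * g' : GL (Fin 3 ⊕ Fin 3) F) : Mat) *ᵥ x =
      x + ω x v • (a + a') + ω x (a + a') • v + (ω a' a * ω x v) • v := by
  rw [Units.val_mul, ← mulVec_mulVec, hg', hg]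
  simp only [w_add_left, w_add_right, w_smul_left, w_self, hva, hva', w_orth hva, w_orth hva', mul_zero,
    add_zero]
  match_scalars <;> ring

theorem spTv_of_comm {g g' : GL (Fin 3 ⊕ Fin 3) F} (hgM : g ∈ M) (hg'M : g' ∈ M)
    {v a a' : V} (hg : IsS g v a) (hg' : IsS g' v a') (hva : ω v a = 0) (hva' : ω v a' = 0) :
    spTv v (2 * ω a' a) ∈ M := by
  have key : g * g' = spTv v (2 * ω a' a) * (g' * g) := gl_ext fun x => by
    rw [isS_mul_eq hg hg' hva hva', Units.val_mul, ← mulVec_mulVec, isS_mul_eq hg' hg hva' hva,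
      spTv_mulVec, Forms.sympForm_swap a' a]
    simp only [w_add_left, w_add_right, w_smul_left, w_self, hva, hva', w_orth hva, w_orth hva', mul_zero,
      add_zero]
    match_scalars <;> ring
  rw [show spTv v (2 * ω a' a) = g * g' * (g' * g)⁻¹ by rw [key]; group]
  exact M.mul_mem (M.mul_mem hgM hg'M) (M.inv_mem (M.mul_mem hg'M hgM))

theorem isS_smul {g : GL (Fin 3 ⊕ Fin 3) F} {v a : V} {t : F} (h : IsS g (t • v) (t • a)) :
    IsS g v ((t * t) • a) := fun x => by
  rw [h x, w_smul_right, w_smul_right, w_smul_right]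
  match_scalars <;> ring

/-- The vectors `y` orthogonal to `z` with the short root element of `ez, ey` in `M`. -/
def Line (T : TFrame F) (M : Subgroup (GL (Fin 3 ⊕ Fin 3) F)) (z y : Fin 3 → F) : Prop :=
  T.B y z = 0 ∧ ∃ g ∈ M, IsS g (T.vec z 0) (T.vec y 0)

theorem vec_left_orth (a b : W) : ω (T.vec a 0) (T.vec b 0) = 0 := by
  rw [T.form_vec]; simp

theorem Line.add {z y y' : W} (h : Line T M z y) (h' : Line T M z y') : Line T M z (y + y') := by
  obtain ⟨hy, g, hg, hgS⟩ := h
  obtain ⟨hy', g', hg', hgS'⟩ := h'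
  refine ⟨by rw [map_add, LinearMap.add_apply, hy, hy', add_zero], g * g', M.mul_mem hg hg', fun x => ?_⟩
  rw [isS_mul_eq hgS hgS' (vec_left_orth _ _) (vec_left_orth _ _), vec_left_orth, zero_mul, zero_smul,
    add_zero, T.vec_add, add_zero]

theorem Line.neg {z y : W} (h : Line T M z y) : Line T M z (-y) := by
  obtain ⟨hy, g, hg, hgS⟩ := h
  refine ⟨by rw [map_neg, LinearMap.neg_apply, hy, neg_zero], g⁻¹, M.inv_mem hg, fun x => ?_⟩
  have e : T.vec (-y) 0 = -T.vec y 0 := by rw [T.vec_neg, neg_zero]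
  have h1 : (g : Mat) *ᵥ (x + ω x (T.vec z 0) • T.vec (-y) 0 + ω x (T.vec (-y) 0) • T.vec z 0) = x := by
    rw [hgS, e]
    simp only [w_add_left, w_smul_left, sesq_sympForm.neg_right, sesq_sympForm.neg_left, w_self,
      vec_left_orth, neg_zero, mul_zero, add_zero, w_smul_right, smul_neg]
    module
  conv_lhs => rw [← h1]
  rw [mulVec_mulVec, Units.inv_mul, one_mulVec]

theorem Line.smul (hM : T.Over M) (h2 : (2 : F) ≠ 0) {z y : W} (h : Line T M z y) (k : F) :
    Line T M z (k • y) := by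
  have hsq : ∀ t : F, Line T M z ((t * t) • y) := by
    intro t
    rcases eq_or_ne t 0 with rfl | ht
    · rw [mul_zero, zero_smul]
      refine ⟨by simp, 1, M.one_mem, fun x => ?_⟩
      rw [T.vec_zero, Units.val_one, one_mulVec]
      simp [sesq_sympForm.zero_right]
    obtain ⟨hy, g, hg, hgS⟩ := h
    obtain ⟨d, hd, hdx⟩ := hM.sl (a := t) (b := 0) (c := 0) (d := t⁻¹) (by field_simp; ring)
    refine ⟨by rw [map_smul, LinearMap.smul_apply, hy, smul_zero], d * g * d⁻¹,
      M.mul_mem (M.mul_mem hd hg) (M.inv_mem hd), ?_⟩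
    have h' := hgS.conj (hM.le hd) (g := d)
    have e : ∀ w : W, (d : Mat) *ᵥ T.vec w 0 = t • T.vec w 0 := fun w => by
      rw [hdx, T.vec_smul]; simp
    rw [e, e] at h'
    have h'' := isS_smul h'
    rwa [T.vec_smul, smul_zero] at h''
  obtain ⟨l, m, rfl⟩ := LPair.exists_square_diff h2 one_ne_zero k
  have := (hsq l).add (hsq m).neg
  simpa [one_mul, sub_eq_add_neg, add_smul, neg_smul] using this

theorem Line.map (hM : T.Over M) {σ : W ≃ₗ[F] W} (hσ : T.IsoW σ) {z y : W} (h : Line T M z y) :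
    Line T M (σ z) (σ y) := by
  obtain ⟨hy, g, hg, hgS⟩ := h
  obtain ⟨s, hs, hsx⟩ := hM.iso hσ
  refine ⟨by rw [hσ, hy], s * g * s⁻¹, M.mul_mem (M.mul_mem hs hg) (M.inv_mem hs), ?_⟩
  have h' := hgS.conj (hM.le hs) (g := s)
  rwa [hsx, hsx, map_zero] at h'

theorem Line.swap {z y : W} (h : Line T M z y) : Line T M y z := by
  obtain ⟨hy, g, hg, hgS⟩ := h
  exact ⟨by rw [T.symm, hy], g, hg, IsS.symm hgS⟩

/-- An anisotropic member of `Line` fills the whole orthogonal plane. -/
theorem Line.all (hM : T.Over M) (h2 : (2 : F) ≠ 0) (hq : 5 ≤ Fintype.card F) {z y : W}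
    (hz : T.B z z ≠ 0) (hy : T.B y y ≠ 0) (h : Line T M z y) {x : W} (hx : T.B x z = 0) :
    Line T M z x := by
  obtain ⟨w, hw, hwz, hwy, hspan⟩ := T.exists_orth hz hy h.1
  have hyw : T.B y w = 0 := by rw [T.symm, hwy]
  obtain ⟨k, hk0, hk⟩ := exists_sq_ne hq (-(T.B y y) / T.B w w)
  have ha : T.B (y + k • w) (y + k • w) ≠ 0 := by
    simp [hwy, hyw]
    intro h'
    exact hk (by field_simp; linear_combination h')
  have haz : T.B z (y + k • w) = 0 := by
    simp [T.symm z y, T.symm z w, h.1, hwz]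
  have h1 := h.map hM (T.refl_iso ha)
  rw [T.refl_perp ha haz] at h1
  set l := 2 / T.B (y + k • w) (y + k • w) * T.B y (y + k • w) with hl
  have hl0 : l ≠ 0 := by
    rw [hl]
    refine mul_ne_zero (div_ne_zero h2 ha) ?_
    simp [hyw, hy]
  have hwl : Line T M z w := by
    have h3 := (h.smul hM h2 (1 - l)).add h1.neg
    have h4 := h3.smul hM h2 (l * k)⁻¹
    rw [T.refl_apply ha, ← hl] at h4
    convert h4 using 1
    match_scalars
    · field_simp
    · field_simp; ring
  obtain ⟨a, b, c, rfl⟩ := hspan x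
  simp [hwz, h.1, hz] at hx
  rw [hx, zero_smul, zero_add]
  exact (h.smul hM h2 b).add (hwl.smul hM h2 c)

/-- A short root element `ez, ec` with `c` isotropic gives a transvection. -/
theorem pureTv_of_line_iso (hM : T.Over M) (h2 : (2 : F) ≠ 0) {z c : W} (hz : T.B z z ≠ 0)
    (hc0 : c ≠ 0) (hc : T.B c c = 0) (h : Line T M z c) : T.PureTv M := by
  obtain ⟨hcz, g, hg, hgS⟩ := h
  have hzc : T.B z c = 0 := by rw [T.symm, hcz]
  have ha : T.B (z + c) (z + c) ≠ 0 := by simp [hcz, hzc, hc, hz]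
  have h1 := (Line.map hM (T.refl_iso hz) ⟨hcz, g, hg, hgS⟩).map hM (T.refl_iso ha)
  rw [T.refl_perp hz hcz, T.refl_perp (x := c) ha (by simp [hcz, hc]), T.refl_self hz, map_neg] at h1
  have e : -(T.refl (z + c) ha z) = z + (2 : F) • c := by
    rw [T.refl_apply ha, show 2 / T.B (z + c) (z + c) * T.B z (z + c) = 2 by
      simp [hcz, hzc, hc]; field_simp]
    module
  rw [e] at h1
  obtain ⟨-, g', hg', hgS'⟩ := h1
  refine ⟨c, hc0, 4, ?_, ?_⟩
  · rw [show (4 : F) = 2 * 2 by norm_num]; exact mul_ne_zero h2 h2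
  have key : g' = spTv (T.vec c 0) 4 * g := gl_ext fun x => by
    rw [hgS', Units.val_mul, ← mulVec_mulVec, hgS, spTv_mulVec]
    have e1 : T.vec (z + (2 : F) • c) 0 = T.vec z 0 + (2 : F) • T.vec c 0 := by
      rw [T.vec_smul, T.vec_add]; simp
    rw [e1]
    simp only [w_add_left, w_add_right, w_smul_left, w_smul_right, w_self, vec_left_orth, mul_zero,
      add_zero]
    match_scalars <;> ring
  rw [show spTv (T.vec c 0) 4 = g' * g⁻¹ by rw [key]; group]
  exact M.mul_mem hg' (M.inv_mem hg)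

/-- A short root element with pure anisotropic centre gives a transvection with pure centre. -/
theorem pureTv_of_short (hM : T.Over M) (h2 : (2 : F) ≠ 0) (hq : 5 ≤ Fintype.card F) {z : W}
    (hz : T.B z z ≠ 0) {g : GL (Fin 3 ⊕ Fin 3) F} (hg : g ∈ M) {r : V} (hr0 : r ≠ 0)
    (hr1 : ω r (T.vec z 0) = 0) (hr2 : ω r (T.vec 0 z) = 0) (hgS : IsS g (T.vec z 0) r) :
    T.PureTv M := by
  obtain ⟨y₁, y₂, rfl⟩ := T.vec_surj r
  rw [T.form_vec] at hr1 hr2
  simp only [map_zero, LinearMap.zero_apply, zero_sub, neg_eq_zero, sub_zero] at hr1 hr2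
  have hy₁z : T.B y₁ z = 0 := hr2
  have hy₂z : T.B y₂ z = 0 := by rw [T.symm]; exact hr1
  by_cases hy₂ : y₂ = 0
  swap
  · -- a second short root element not commuting with the first
    obtain ⟨σ, hσ, hinv, hσz, hσy⟩ : ∃ σ : W ≃ₗ[F] W,
        T.IsoW σ ∧ (∀ x, σ (σ x) = x) ∧ σ z = z ∧ T.B (σ y₂) y₂ ≠ 0 := by
      by_cases hn : T.B y₂ y₂ = 0
      swap
      · exact ⟨LinearEquiv.refl F _, refl_one, fun _ => rfl, rfl, hn⟩
      obtain ⟨u, hu⟩ := T.nondeg y₂ hy₂
      set u' := u - (T.B u z / T.B z z) • z with hu'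
      have hu'z : T.B u' z = 0 := by simp [hu', div_mul_cancel₀ _ hz]
      have hbu : T.B y₂ u' ≠ 0 := by simpa [hu', hy₂z] using hu
      set c' := (T.B y₂ u')⁻¹ • (u' - (T.B u' u' / (2 * T.B y₂ u')) • y₂) with hc'
      have h1 : T.B y₂ c' = 1 := by simp [hc', hn, inv_mul_cancel₀ hbu]
      have h3 : T.B c' c' = 0 := by
        simp [hc', hn, T.symm u' y₂]
        right
        field_simp
        ring
      have h4 : T.B c' z = 0 := by simp [hc', hu'z, hy₂z]
      have h1' : T.B c' y₂ = 1 := by rw [T.symm, h1]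
      have ha : T.B (y₂ - c') (y₂ - c') ≠ 0 := by
        simp [hn, h3, h1, h1']
        intro h'
        exact h2 (by linear_combination -h')
      refine ⟨T.refl _ ha, T.refl_iso ha, T.refl_invol ha, T.refl_perp ha (by
        simp [T.symm z y₂, T.symm z c', hy₂z, h4]), ?_⟩
      have e : T.refl _ ha y₂ = c' := by
        rw [T.refl_apply ha, show 2 / T.B (y₂ - c') (y₂ - c') * T.B y₂ (y₂ - c') = 1 by
          rw [div_mul_eq_mul_div, div_eq_one_iff_eq ha]; simp [hn, h3, h1, h1']; ring, one_smul, sub_sub_cancel]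
      rw [e, h1']; exact one_ne_zero
    obtain ⟨h, hh, hhx⟩ := hM.tensor 1 1 0 1 (by ring) σ hσ
    have hhz : (h : Mat) *ᵥ T.vec z 0 = T.vec z 0 := by rw [hhx, hσz]; simp
    have h' := hgS.conj (hM.le hh) (g := h)
    rw [hhz, hhx] at h'
    simp only [one_smul, zero_smul, zero_add] at h'
    have hva : ω (T.vec z 0) (T.vec y₁ y₂) = 0 := by rw [T.form_vec, hr1]; simp
    have hva' : ω (T.vec z 0) (T.vec (σ y₁ + σ y₂) (σ y₂)) = 0 := by
      rw [T.form_vec]
      simp only [map_zero, LinearMap.zero_apply, sub_zero]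
      rw [← hσz, hσ, hr1]
    have hω : ω (T.vec (σ y₁ + σ y₂) (σ y₂)) (T.vec y₁ y₂) = T.B (σ y₂) y₂ := by
      rw [T.form_vec, map_add, LinearMap.add_apply]
      have e : T.B y₁ (σ y₂) = T.B (σ y₁) y₂ := by
        conv_rhs => rw [← hinv y₂]
        rw [hσ]
      rw [e]; ring
    refine ⟨z, fun hz0 => hz (by simp [hz0]), 2 * T.B (σ y₂) y₂, mul_ne_zero h2 hσy, ?_⟩
    rw [← hω]
    exact spTv_of_comm hg (M.mul_mem (M.mul_mem hh hg) (M.inv_mem hh)) hgS h' hva hva'
  subst hy₂
  have hy₁0 : y₁ ≠ 0 := fun h => hr0 (by rw [h, T.vec_zero])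
  have hL : Line T M z y₁ := ⟨hy₁z, g, hg, hgS⟩
  by_cases hn : T.B y₁ y₁ = 0
  · exact pureTv_of_line_iso hM h2 hz hy₁0 hn hL
  -- an isotropic vector not orthogonal to `z`
  obtain ⟨c, hc, hcz⟩ : ∃ c, T.B c c = 0 ∧ T.B z c ≠ 0 := by
    obtain ⟨u, hu, huu⟩ := T.exists_value hz h2 (-(T.B z z))
    exact ⟨z + u, by simp [hu, T.symm z u, huu], by simp [hu, T.symm z u, hz]⟩
  obtain ⟨p, hp0, hpz, hpc⟩ := T.exists_perp z c
  have hp : T.B p p ≠ 0 := by
    intro hpp
    obtain ⟨u, hu⟩ := T.nondeg p hp0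
    -- `z, c, p` span, and all are orthogonal to `p`
    have hind : LinearIndependent F ![z, c, p] := by
      rw [Fintype.linearIndependent_iff]
      intro g' hg'
      simp only [Fin.sum_univ_three, Matrix.cons_val_zero, Matrix.cons_val_one, Matrix.cons_val] at hg'
      have h0 := congrArg (fun v => T.B v c) hg'
      simp [hc, hpc, hcz] at h0
      have h1 := congrArg (fun v => T.B v z) hg'
      simp [hpz, h0, T.symm c z, hcz] at h1
      rw [h0, h1, zero_smul, zero_smul, zero_add, zero_add] at hg'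
      intro i
      fin_cases i
      · exact h0
      · exact h1
      · exact (smul_eq_zero.mp hg').resolve_right hp0
    have htop := hind.span_eq_top_of_card_eq_finrank (by simp)
    obtain ⟨g', rfl⟩ := (Submodule.mem_span_range_iff_exists_fun F).mp
      (htop ▸ Submodule.mem_top : u ∈ Submodule.span F (Set.range ![z, c, p]))
    simp [Fin.sum_univ_three, hpz, hpc, hpp] at hu
  have h1 := (hL.all hM h2 hq hz hn hpz).swap
  exact pureTv_of_line_iso hM h2 hp (fun h0 => hcz (by simp [h0])) hc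
    (h1.all hM h2 hq hp hz (by rw [T.symm, hpc]))

/-- Some transvection with pure centre gives all. -/
theorem centreIn_of_pureTv (hM : T.Over M) (h2 : (2 : F) ≠ 0) (hq : 5 ≤ Fintype.card F)
    (h : T.PureTv M) : ∀ v, CentreIn M v := by
  obtain ⟨w, hw0, c, hc, hwM⟩ := h
  let C : W → Prop := fun x => CentreIn M (T.vec x 0)
  have hCw : C w := by
    intro d
    have hsq : ∀ t : F, spTv (T.vec w 0) (c * (t * t)) ∈ M := by
      intro t
      rcases eq_or_ne t 0 with rfl | ht
      · simp [spTv, tv_zero_left, M.one_mem]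
      obtain ⟨s, hs, hsx⟩ := hM.sl (a := t) (b := 0) (c := 0) (d := t⁻¹) (by field_simp; ring)
      rw [← spTv_smul, show t • T.vec w 0 = (s : Mat) *ᵥ T.vec w 0 by rw [hsx, T.vec_smul]; simp,
        ← conj_spTv (hM.le hs)]
      exact M.mul_mem (M.mul_mem hs hwM) (M.inv_mem hs)
    obtain ⟨l, l', rfl⟩ := LPair.exists_square_diff h2 hc d
    have e : spTv (T.vec w 0) (c * (l * l) - c * (l' * l')) * spTv (T.vec w 0) (c * (l' * l')) =
        spTv (T.vec w 0) (c * (l * l)) := gl_ext fun x => by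
      simp only [Units.val_mul, ← mulVec_mulVec, spTv_mulVec, w_add_left, w_smul_left, w_self,
        mul_zero, add_zero]
      match_scalars <;> ring
    rw [show spTv (T.vec w 0) (c * (l * l) - c * (l' * l')) =
      spTv (T.vec w 0) (c * (l * l)) * (spTv (T.vec w 0) (c * (l' * l')))⁻¹ by rw [← e]; group]
    exact M.mul_mem (hsq l) (M.inv_mem (hsq l'))
  have hright : ∀ {x : W}, C x → CentreIn M (T.vec 0 x) := by
    intro x hx
    obtain ⟨s, hs, hsx⟩ := hM.sl (a := 0) (b := -1) (c := 1) (d := 0) (by ring)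
    have := hx.map (hM.le hs) hs
    rwa [hsx, zero_smul, zero_add, smul_zero, one_smul, zero_smul, add_zero] at this
  have hsmul : ∀ {x : W}, C x → ∀ k : F, C (k • x) := by
    intro x hx k
    have := hx.smul k
    rwa [T.vec_smul, smul_zero] at this
  have hneg : ∀ {x : W}, C x → CentreIn M (T.vec 0 (-x)) := by
    intro x hx
    have := (hright hx).smul (-1)
    rwa [T.vec_smul, smul_zero, neg_one_smul] at this
  have hiso : ∀ {σ : W ≃ₗ[F] W}, T.IsoW σ → ∀ {x : W}, C x → C (σ x) := by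
    intro σ hσ x hx
    obtain ⟨s, hs, hsx⟩ := hM.iso hσ
    have := hx.map (hM.le hs) hs
    rwa [hsx, map_zero] at this
  have hsum : ∀ {x x' z : W}, C x → C x' → C z → T.B x z ≠ 0 → T.B x' z ≠ 0 → T.B (x + x') z ≠ 0 →
      C (x + x') := by
    intro x x' z hx hx' hz h1 h3 h4
    have e1 := hx.add (hright hz) (by rw [T.form_vec]; simpa using h1)
    rw [T.vec_add, add_zero, zero_add] at e1
    have e2 := e1.add hx' (by rw [T.form_vec]; simpa [T.symm z x'] using h3)
    rw [T.vec_add, add_zero] at e2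
    have e3 := e2.add (hneg hz) (by
      rw [T.form_vec, map_neg, map_zero, LinearMap.zero_apply, sub_zero]
      exact neg_ne_zero.mpr h4)
    rwa [T.vec_add, add_zero, add_neg_cancel] at e3
  -- all anisotropic vectors
  have haniso : ∀ x, T.B x x ≠ 0 → C x := by
    suffices ∀ n : F, n ≠ 0 → ∃ x, C x ∧ T.B x x = n by
      intro x hx
      obtain ⟨x', hx', he⟩ := this _ hx
      obtain ⟨σ, hσ, rfl⟩ := T.exists_iso_move h2 (by rw [he]; exact hx : T.B x' x' ≠ 0) he.symm
      exact hiso hσ hx'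
    intro n hn
    by_cases hww : T.B w w = 0
    · -- isotropic centre
      obtain ⟨u, hu⟩ := T.nondeg w hw0
      set c' := (T.B w u)⁻¹ • (u - (T.B u u / (2 * T.B w u)) • w) with hc'
      have h1 : T.B w c' = 1 := by simp [hc', hww, inv_mul_cancel₀ hu]
      have h3 : T.B c' c' = 0 := by
        simp [hc', hww, T.symm u w]
        right
        field_simp
        ring
      have h1' : T.B c' w = 1 := by rw [T.symm, h1]
      have hs : T.B (w + c') (w + c') ≠ 0 := by
        simp [hww, h3, h1, h1']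
        intro h'; exact h2 (by linear_combination h')
      obtain ⟨d, hd, hdc, hdc'⟩ : ∃ d, T.B d d ≠ 0 ∧ T.B d w = 0 ∧ T.B d c' = 0 := by
        have hm : T.B (w - c') (w - c') ≠ 0 := by
          simp [hww, h3, h1, h1']
          intro h'; exact h2 (by linear_combination -h')
        obtain ⟨d, hd, hd1, hd2, -⟩ := T.exists_orth hs hm (by simp [hww, h3, h1, h1'])
        simp at hd1 hd2
        refine ⟨d, hd, ?_, ?_⟩
        · have : (2 : F) * T.B d w = 0 := by linear_combination hd1 + hd2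
          exact (mul_eq_zero.mp this).resolve_left h2
        · have : (2 : F) * T.B d c' = 0 := by linear_combination hd1 - hd2
          exact (mul_eq_zero.mp this).resolve_left h2
      set δ := T.B d d with hδ
      set k := n / 2 with hk
      obtain ⟨t, ht0, ht⟩ := exists_sq_ne hq (2 * k / δ)
      set p := w + t • d - (t * t * δ / 2) • c' with hp
      have hwd : T.B w d = 0 := by rw [T.symm, hdc]
      have hc'd : T.B c' d = 0 := by rw [T.symm, hdc']
      have hpp : T.B p p = 0 := by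
        simp [hp, hww, h3, h1, h1', hdc, hdc', hwd, hc'd]
        field_simp
        ring
      have hwp : T.B w p ≠ 0 := by
        simp [hp, hww, h1, hwd]
        exact ⟨⟨ht0, hd⟩, h2⟩
      have hCc' : C c' := by
        have hm : T.B (w - c') (w - c') ≠ 0 := by
          simp [hww, h3, h1, h1']
          intro h'; exact h2 (by linear_combination -h')
        have := hiso (T.refl_iso hm) hCw
        rwa [T.refl_apply hm, show 2 / T.B (w - c') (w - c') * T.B w (w - c') = 1 by
          rw [div_mul_eq_mul_div, div_eq_one_iff_eq hm]; simp [hww, h3, h1, h1']; ring, one_smul, sub_sub_cancel] at this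
      have hCp : C p := by
        have hm : T.B (w - p) (w - p) ≠ 0 := by
          simp [hww, hpp, T.symm p w]
          intro h'
          exact hwp ((mul_eq_zero.mp (show (2 : F) * T.B w p = 0 by linear_combination -h')).resolve_left h2)
        have := hiso (T.refl_iso hm) hCw
        rwa [T.refl_apply hm, show 2 / T.B (w - p) (w - p) * T.B w (w - p) = 1 by
          rw [div_mul_eq_mul_div, div_eq_one_iff_eq hm]
          simp [hww, hpp, T.symm p w]; ring, one_smul, sub_sub_cancel] at this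
      refine ⟨w + k • c', hsum hCw (hsmul hCc' k) hCp hwp ?_ ?_, ?_⟩
      · simp [hp, h3, h1', hc'd, hk, hn, h2]
      · simp [hp, hww, h3, h1, h1', hwd, hc'd]
        intro h'
        apply ht
        rw [eq_div_iff hd]
        field_simp at h' ⊢
        linear_combination -h'
      · simp [hww, h3, h1, h1', hk]
        field_simp
        ring
    · -- anisotropic centre, rescaled
      obtain ⟨z, hCz, hz, hzn⟩ : ∃ z, C z ∧ T.B z z ≠ 0 ∧ n ≠ 2 * T.B z z := by
        by_cases hn2 : n = 2 * T.B w w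
        · obtain ⟨k, hk0, hk1⟩ := exists_sq_ne hq (1 : F)
          refine ⟨k • w, hsmul hCw k, by simp [hk0, hww], fun h' => hk1 ?_⟩
          simp at h'
          rw [hn2] at h'
          have h'' : (2 * T.B w w) * (k * k) = 2 * T.B w w * 1 := by linear_combination -h'
          exact mul_left_cancel₀ (mul_ne_zero h2 hww) h''
        · exact ⟨w, hCw, hww, hn2⟩
      set η := T.B z z with hη
      set b := n / 2 - η with hb
      have hb0 : b ≠ 0 := by
        intro h'
        apply hzn
        rw [hb, sub_eq_zero, div_eq_iff h2] at h'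
        rw [h']; ring
      obtain ⟨y, hyz, hyy⟩ := T.exists_value (hη ▸ hz : T.B z z ≠ 0) h2 (η - b * b / η)
      set z₁ := (b / η) • z + y with hz₁
      have hzy : T.B z y = 0 := by rw [T.symm, hyz]
      have h1 : T.B z₁ z₁ = η := by
        simp [hz₁, hyz, hzy, hyy, ← hη]
        field_simp
        ring
      have h3 : T.B z₁ z = b := by
        simp [hz₁, hyz, ← hη]
        field_simp
      obtain ⟨σ, hσ, hσz⟩ := T.exists_iso_move h2 (hη ▸ hz : T.B z z ≠ 0) h1
      have hC₁ : C z₁ := hσz ▸ hiso hσ hCz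
      refine ⟨z + z₁, hsum hCz hC₁ hCz hz (h3 ▸ hb0) ?_, ?_⟩
      · rw [map_add, LinearMap.add_apply, h3, ← hη, hb, add_sub_cancel]
        exact div_ne_zero hn h2
      · simp only [map_add, LinearMap.add_apply, T.symm z z₁, h1, h3, ← hη, hb]
        field_simp
        ring
  -- all isotropic vectors
  have hall : ∀ x, C x := by
    intro x
    by_cases hx : T.B x x = 0
    swap
    · exact haniso x hx
    rcases eq_or_ne x 0 with rfl | hx0
    · show CentreIn M (T.vec 0 0)
      rw [T.vec_zero]; exact centreIn_zero M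
    obtain ⟨u, hu⟩ := T.nondeg x hx0
    set c' := (T.B x u)⁻¹ • (u - (T.B u u / (2 * T.B x u)) • x) with hc'
    have h1 : T.B x c' = 1 := by simp [hc', hx, inv_mul_cancel₀ hu]
    have h1' : T.B c' x = 1 := by rw [T.symm, h1]
    have h3 : T.B c' c' = 0 := by
      simp [hc', hx, T.symm u x]
      right
      field_simp
      ring
    have hs : T.B (x + c') (x + c') ≠ 0 := by
      simp [hx, h3, h1, h1']
      intro h'; exact h2 (by linear_combination h')
    have hm : T.B (x - c') (x - c') ≠ 0 := by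
      simp [hx, h3, h1, h1']
      intro h'; exact h2 (by linear_combination -h')
    obtain ⟨d, hd, hd1, hd2, -⟩ := T.exists_orth hs hm (by simp [hx, h3, h1, h1'])
    simp at hd1 hd2
    have hdx : T.B d x = 0 := (mul_eq_zero.mp
      (show (2 : F) * T.B d x = 0 by linear_combination hd1 + hd2)).resolve_left h2
    have hdc : T.B d c' = 0 := (mul_eq_zero.mp
      (show (2 : F) * T.B d c' = 0 by linear_combination hd1 - hd2)).resolve_left h2
    have hxd : T.B x d = 0 := by rw [T.symm, hdx]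
    have hcd : T.B c' d = 0 := by rw [T.symm, hdc]
    classical
    obtain ⟨μ, hμ⟩ := two_lt_card hq {0, (2 * T.B d d)⁻¹, -(2 * T.B d d)⁻¹} (le_trans Finset.card_le_three (by norm_num))
    simp only [Finset.mem_insert, Finset.mem_singleton, not_or] at hμ
    have hsplit : x = ((2 : F)⁻¹ • x + d) + ((2 : F)⁻¹ • x - d) := by
      match_scalars
      · field_simp; norm_num
      · ring
    rw [hsplit]
    refine hsum (z := c' + μ • d) (haniso _ ?_) (haniso _ ?_) (haniso _ ?_) ?_ ?_ ?_
    · simp [hx, hdx, hxd, hd]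
    · simp [hx, hdx, hxd, hd]
    · simp [h3, hcd, hdc, hμ.1, hd]
    · simp [h1, hxd, hdc]
      intro h'
      apply hμ.2.2
      field_simp at h' ⊢
      linear_combination h'
    · simp [h1, hxd, hdc]
      intro h'
      apply hμ.2.1
      field_simp at h' ⊢
      linear_combination -h'
    · rw [← hsplit]; simp [h1, hxd]
  intro v
  obtain ⟨a, b, rfl⟩ := T.vec_surj v
  rcases eq_or_ne a 0 with rfl | ha0
  · exact hright (hall b)
  by_cases hab : T.B a b = 0
  · obtain ⟨b', hb'⟩ := T.nondeg a ha0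
    have e1 := (hall a).add (hright (hall b')) (by rw [T.form_vec]; simpa using hb')
    rw [T.vec_add, add_zero, zero_add] at e1
    have e2 := e1.add (hright (hall (b - b'))) (by
      rw [T.form_vec, map_zero, LinearMap.zero_apply, sub_zero, map_sub, hab, zero_sub]
      exact neg_ne_zero.mpr hb')
    rwa [T.vec_add, add_zero, add_sub_cancel] at e2
  · have e1 := (hall a).add (hright (hall b)) (by rw [T.form_vec]; simpa using hab)
    rwa [T.vec_add, add_zero, zero_add] at e1

end TFrame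

end CfsgLib.SpSix
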