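import Cfsg.Agent.SpSix.Pair
import Cfsg.Agent.ExtField.Bridge

/-!
# `Sp_2 ⊗ O_3` inside `Sp_6`: the frame, the symmetric factor and the elements
-/

set_option autoImplicit false
set_option linter.unusedSectionVars false

namespace CfsgLib.SpSix

open Matrix Cfsg.Geo CfsgLib.MaxSub
open scoped MatrixGroups

variable {F : Type*} [Field F]

local notation "W" => (Fin 3 → F)
local notation "V" => (Fin 3 ⊕ Fin 3 → F)
local notation "ω" => Cfsg.sympForm 3 F
local notation "Mat" => Matrix (Fin 3 ⊕ Fin 3) (Fin 3 ⊕ Fin 3) F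

/-- A presentation of the symplectic space as `F² ⊗ W` for a symmetric form on `W`. -/
structure TFrame (F : Type*) [Field F] where
  B : (Fin 3 → F) →ₗ[F] (Fin 3 → F) →ₗ[F] F
  symm : ∀ x y, B x y = B y x
  nondeg : ∀ x, x ≠ 0 → ∃ y, B x y ≠ 0
  E : ((Fin 3 → F) × (Fin 3 → F)) ≃ₗ[F] (Fin 3 ⊕ Fin 3 → F)
  form : ∀ a b a' b', Cfsg.sympForm 3 F (E (a, b)) (E (a', b')) = B a b' - B a' b

namespace TFrame

variable (T : TFrame F)

/-- `e ⊗ a + f ⊗ b`. -/
def vec (a b : Fin 3 → F) : Fin 3 ⊕ Fin 3 → F := T.E (a, b)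

theorem form_vec (a b a' b' : W) : ω (T.vec a b) (T.vec a' b') = T.B a b' - T.B a' b := T.form a b a' b'

theorem vec_add (a b a' b' : W) : T.vec a b + T.vec a' b' = T.vec (a + a') (b + b') :=
  (map_add T.E (a, b) (a', b')).symm

theorem vec_sub (a b a' b' : W) : T.vec a b - T.vec a' b' = T.vec (a - a') (b - b') :=
  (map_sub T.E (a, b) (a', b')).symm

theorem vec_smul (c : F) (a b : W) : c • T.vec a b = T.vec (c • a) (c • b) :=
  (map_smul T.E c (a, b)).symm

theorem vec_neg (a b : W) : -T.vec a b = T.vec (-a) (-b) := (map_neg T.E (a, b)).symm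

theorem vec_zero : T.vec 0 0 = 0 := map_zero T.E

theorem vec_inj {a b a' b' : W} (h : T.vec a b = T.vec a' b') : a = a' ∧ b = b' :=
  Prod.ext_iff.mp (T.E.injective h)

theorem vec_eq_zero {a b : W} (h : T.vec a b = 0) : a = 0 ∧ b = 0 :=
  T.vec_inj (h.trans T.vec_zero.symm)

theorem vec_surj (v : V) : ∃ a b, T.vec a b = v := ⟨(T.E.symm v).1, (T.E.symm v).2, T.E.apply_symm_apply v⟩

/-- An invertible pair map preserving the form gives an element of `Sp`. -/
theorem exists_gl (L : (W × W) ≃ₗ[F] (W × W))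
    (hL : ∀ p q : W × W, T.B (L p).1 (L q).2 - T.B (L q).1 (L p).2 = T.B p.1 q.2 - T.B q.1 p.2) :
    ∃ g ∈ Cfsg.spGL 3 F, ∀ a b, (g : Mat) *ᵥ T.vec a b = T.vec (L (a, b)).1 (L (a, b)).2 := by
  obtain ⟨g, hg⟩ := (ExtField.glAut : GL (Fin 3 ⊕ Fin 3) F ≃* _).surjective
    (T.E.symm.trans (L.trans T.E))
  have hga : ∀ a b, (g : Mat) *ᵥ T.vec a b = T.vec (L (a, b)).1 (L (a, b)).2 := fun a b => by
    rw [← ExtField.glAut_apply, hg]
    simp [vec]
  refine ⟨g, mem_spGL_iff.mpr fun u v => ?_, hga⟩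
  obtain ⟨a, b, rfl⟩ := T.vec_surj u
  obtain ⟨c, d, rfl⟩ := T.vec_surj v
  rw [hga, hga, T.form_vec, T.form_vec]
  exact hL (a, b) (c, d)

/-- Being an isometry of the symmetric form. -/
def IsoW (σ : (Fin 3 → F) ≃ₗ[F] (Fin 3 → F)) : Prop := ∀ x y, T.B (σ x) (σ y) = T.B x y

/-- `S ⊗ σ` with `det S = 1`. -/
theorem exists_tensor {a b c d : F} (hdet : a * d - b * c = 1) {σ : W ≃ₗ[F] W} (hσ : T.IsoW σ) :
    ∃ g ∈ Cfsg.spGL 3 F, ∀ x y,
      (g : Mat) *ᵥ T.vec x y = T.vec (a • σ x + b • σ y) (c • σ x + d • σ y) := by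
  let L : (W × W) ≃ₗ[F] (W × W) :=
    { toFun := fun p => (a • σ p.1 + b • σ p.2, c • σ p.1 + d • σ p.2)
      map_add' := fun p q => by
        simp only [Prod.fst_add, Prod.snd_add, map_add, smul_add, Prod.mk_add_mk]
        refine Prod.ext ?_ ?_ <;> simp only <;> abel
      map_smul' := fun k p => by
        simp only [Prod.smul_fst, Prod.smul_snd, LinearEquiv.map_smul, RingHom.id_apply, Prod.smul_mk,
          smul_add, smul_comm k]
      invFun := fun p => (σ.symm (d • p.1 - b • p.2), σ.symm (a • p.2 - c • p.1))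
      left_inv := fun p => by
        refine Prod.ext ?_ ?_
        · refine σ.injective ?_
          simp only [LinearEquiv.apply_symm_apply]
          match_scalars
          · linear_combination hdet
          · ring
        · refine σ.injective ?_
          simp only [LinearEquiv.apply_symm_apply]
          match_scalars
          · ring
          · linear_combination hdet
      right_inv := fun p => by
        refine Prod.ext ?_ ?_
        · simp only [LinearEquiv.apply_symm_apply]
          match_scalars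
          · linear_combination hdet
          · ring
        · simp only [LinearEquiv.apply_symm_apply]
          match_scalars
          · ring
          · linear_combination hdet }
  refine T.exists_gl L fun p q => ?_
  simp only [L, LinearEquiv.coe_mk, LinearMap.coe_mk, AddHom.coe_mk, map_add, map_smul, LinearMap.add_apply,
    LinearMap.smul_apply, hσ _ _, smul_eq_mul]
  rw [T.symm p.1 q.1, T.symm p.2 q.2, T.symm q.1 p.2, T.symm q.2 p.1]
  linear_combination (T.B p.1 q.2 - T.B p.2 q.1) * hdet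

theorem exists_perp (p q : W) : ∃ x, x ≠ 0 ∧ T.B x p = 0 ∧ T.B x q = 0 := by
  let L : W →ₗ[F] F × F := (T.B.flip p).prod (T.B.flip q)
  have h1 := L.finrank_range_add_finrank_ker
  have h2 := Submodule.finrank_le (LinearMap.range L)
  rw [Module.finrank_prod, Module.finrank_self] at h2
  rw [Module.finrank_fin_fun] at h1
  obtain ⟨x, hx, hx0⟩ := (LinearMap.ker L).exists_mem_ne_zero_of_ne_bot (fun h => by
    rw [h, finrank_bot] at h1; omega)
  have h := LinearMap.mem_ker.mp hx
  exact ⟨x, hx0, (Prod.ext_iff.mp h).1, (Prod.ext_iff.mp h).2⟩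

/-- An orthogonal basis through two orthogonal anisotropic vectors. -/
theorem exists_orth {z y : W} (hz : T.B z z ≠ 0) (hy : T.B y y ≠ 0) (hyz : T.B y z = 0) :
    ∃ w, T.B w w ≠ 0 ∧ T.B w z = 0 ∧ T.B w y = 0 ∧
      ∀ x, ∃ a b c : F, x = a • z + b • y + c • w := by
  obtain ⟨w, hw0, hwz, hwy⟩ := T.exists_perp z y
  have hzy : T.B z y = 0 := by rw [T.symm, hyz]
  have hind : LinearIndependent F ![z, y, w] := by
    rw [Fintype.linearIndependent_iff]
    intro g hg
    simp only [Fin.sum_univ_three, Matrix.cons_val_zero, Matrix.cons_val_one, Matrix.cons_val] at hg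
    have h0 := congrArg (fun v => T.B v z) hg
    have h1 := congrArg (fun v => T.B v y) hg
    simp [hwz, hyz, hz] at h0
    simp [hwy, hzy, hy] at h1
    rw [h0, h1, zero_smul, zero_smul, zero_add, zero_add] at hg
    intro i
    fin_cases i
    · exact h0
    · exact h1
    · exact (smul_eq_zero.mp hg).resolve_right hw0
  have hspan : ∀ x, ∃ a b c : F, x = a • z + b • y + c • w := by
    intro x
    have htop := hind.span_eq_top_of_card_eq_finrank (by simp)
    have hx : x ∈ Submodule.span F (Set.range ![z, y, w]) := htop ▸ Submodule.mem_top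
    obtain ⟨g, hg⟩ := (Submodule.mem_span_range_iff_exists_fun F).mp hx
    exact ⟨g 0, g 1, g 2, by simp [← hg, Fin.sum_univ_three]⟩
  refine ⟨w, fun hww => ?_, hwz, hwy, hspan⟩
  obtain ⟨x, hx⟩ := T.nondeg w hw0
  obtain ⟨a, b, c, rfl⟩ := hspan x
  simp [hwz, hwy, hww] at hx

variable [Fintype F]

theorem two_lt_card (hq : 5 ≤ Fintype.card F) (s : Finset F) (hs : s.card ≤ 4) : ∃ k, k ∉ s := by
  by_contra h
  push Not at h
  have := Finset.card_le_card (fun k _ => h k : (Finset.univ : Finset F) ⊆ s)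
  rw [Finset.card_univ] at this
  omega

/-- A non-zero scalar with square different from a given value. -/
theorem exists_sq_ne (hq : 5 ≤ Fintype.card F) (n : F) : ∃ k : F, k ≠ 0 ∧ k * k ≠ n := by
  classical
  by_cases h : (1 : F) * 1 = n
  · obtain ⟨k, hk⟩ := two_lt_card hq {0, 1, -1} (by
      exact le_trans Finset.card_le_three (by norm_num))
    simp only [Finset.mem_insert, Finset.mem_singleton, not_or] at hk
    refine ⟨k, hk.1, fun h' => ?_⟩
    rw [← h] at h'
    rcases mul_self_eq_one_iff.mp (h'.trans (one_mul 1)) with h1 | h1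
    · exact hk.2.1 h1
    · exact hk.2.2 h1
  · exact ⟨1, one_ne_zero, h⟩

/-- The orthogonal plane of an anisotropic vector contains an anisotropic vector. -/
theorem exists_perp_aniso {z : W} (hz : T.B z z ≠ 0) (h2 : (2 : F) ≠ 0) :
    ∃ y, T.B y y ≠ 0 ∧ T.B y z = 0 := by
  obtain ⟨x, hx0, hxz, -⟩ := T.exists_perp z z
  by_cases hxx : T.B x x = 0
  swap
  · exact ⟨x, hxx, hxz⟩
  obtain ⟨w, hw⟩ := T.nondeg x hx0
  set w' := w - (T.B w z / T.B z z) • z with hw'
  have hw'z : T.B w' z = 0 := by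
    simp [hw', div_mul_cancel₀ _ hz]
  have hxw' : T.B x w' ≠ 0 := by simpa [hw', hxz] using hw
  by_cases hww : T.B w' w' = 0
  swap
  · exact ⟨w', hww, hw'z⟩
  refine ⟨x + w', ?_, by simp [hxz, hw'z]⟩
  simp only [map_add, LinearMap.add_apply, hxx, hww, T.symm w' x, zero_add, add_zero, ← two_mul]
  exact mul_ne_zero h2 hxw'

/-- An orthogonal basis through an anisotropic vector. -/
theorem exists_orth_basis {z : W} (hz : T.B z z ≠ 0) (h2 : (2 : F) ≠ 0) :
    ∃ y w, T.B y y ≠ 0 ∧ T.B y z = 0 ∧ T.B w w ≠ 0 ∧ T.B w z = 0 ∧ T.B w y = 0 ∧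
      ∀ x, ∃ a b c : F, x = a • z + b • y + c • w := by
  obtain ⟨y, hy, hyz⟩ := T.exists_perp_aniso hz h2
  obtain ⟨w, hw, hwz, hwy, hspan⟩ := T.exists_orth hz hy hyz
  exact ⟨y, w, hy, hyz, hw, hwz, hwy, hspan⟩

/-- The orthogonal plane of an anisotropic vector represents every value. -/
theorem exists_value {z : W} (hz : T.B z z ≠ 0) (h2 : (2 : F) ≠ 0) (n : F) :
    ∃ y, T.B y z = 0 ∧ T.B y y = n := by
  obtain ⟨y, w, hy, hyz, hw, hwz, hwy, -⟩ := T.exists_orth_basis hz h2
  open Polynomial in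
  obtain ⟨a, b, hab⟩ := FiniteField.exists_root_sum_quadratic
    (f := (C (T.B y y) * X ^ 2 - C n : F[X])) (g := (C (T.B w w) * X ^ 2 : F[X]))
    (by
      rw [degree_sub_eq_left_of_degree_lt]
      · exact degree_C_mul_X_pow 2 hy
      · rw [degree_C_mul_X_pow 2 hy]; exact lt_of_le_of_lt degree_C_le (by norm_num))
    (degree_C_mul_X_pow 2 hw)
    (FiniteField.odd_card_of_char_ne_two fun h => h2 (by
      have := ringChar.of_eq h
      exact CharTwo.two_eq_zero))
  refine ⟨a • y + b • w, by simp [hyz, hwz], ?_⟩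
  simp only [Polynomial.eval_sub, Polynomial.eval_mul, Polynomial.eval_C, Polynomial.eval_pow,
    Polynomial.eval_X] at hab
  simp only [map_add, map_smul, LinearMap.add_apply, LinearMap.smul_apply, smul_eq_mul, hwy, T.symm y w,
    mul_zero, add_zero, zero_add]
  linear_combination hab

/-- A hyperbolic pair with its anisotropic orthogonal vector. -/
theorem exists_hyp (h2 : (2 : F) ≠ 0) :
    ∃ c d c', T.B c c = 0 ∧ T.B c' c' = 0 ∧ T.B c c' = 1 ∧ T.B d d ≠ 0 ∧ T.B d c = 0 ∧ T.B d c' = 0 := by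
  obtain ⟨z, hz⟩ : ∃ z, T.B z z ≠ 0 := by
    by_contra h
    push Not at h
    have hne : (Pi.single 0 1 : W) ≠ 0 := by simp
    obtain ⟨y, hy⟩ := T.nondeg _ hne
    have h3 := h (Pi.single 0 1 + y)
    simp only [map_add, LinearMap.add_apply, h, T.symm y (Pi.single 0 1), zero_add, add_zero,
      ← two_mul] at h3
    exact mul_ne_zero h2 hy h3
  obtain ⟨y, hyz, hyy⟩ := T.exists_value hz h2 (-(T.B z z))
  have hy : T.B y y ≠ 0 := by rw [hyy]; exact neg_ne_zero.mpr hz
  obtain ⟨w, hw, hwz, hwy, -⟩ := T.exists_orth hz hy hyz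
  have hzy : T.B z y = 0 := by rw [T.symm, hyz]
  refine ⟨z + y, w, (2 * T.B z z)⁻¹ • (z - y), ?_, ?_, ?_, hw, ?_, ?_⟩
  · simp [hyz, hzy, hyy]
  · simp [hyz, hzy, hyy]
  · simp [hyz, hzy, hyy]
    field_simp
    ring
  · simp [hwz, hwy]
  · simp [hwz, hwy]

/-- Vectors in terms of a hyperbolic frame. -/
theorem hyp_decomp {c d c' : W} (hc : T.B c c = 0) (hc' : T.B c' c' = 0) (hcc' : T.B c c' = 1)
    (hd : T.B d d ≠ 0) (hdc : T.B d c = 0) (hdc' : T.B d c' = 0) (x : W) :
    x = T.B x c' • c + (T.B x d / T.B d d) • d + T.B x c • c' := by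
  by_contra hne
  set y := x - (T.B x c' • c + (T.B x d / T.B d d) • d + T.B x c • c') with hy
  have hy0 : y ≠ 0 := sub_ne_zero.mpr hne
  have hc'c : T.B c' c = 1 := by rw [T.symm, hcc']
  have hcd : T.B c d = 0 := by rw [T.symm, hdc]
  have hc'd : T.B c' d = 0 := by rw [T.symm, hdc']
  have hyc : T.B y c = 0 := by simp [hy, hc, hdc, hc'c]
  have hyc' : T.B y c' = 0 := by simp [hy, hc', hdc', hcc']
  have hyd : T.B y d = 0 := by simp [hy, hcd, hc'd, div_mul_cancel₀ _ hd]
  have hind : LinearIndependent F ![c, d, c'] := by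
    rw [Fintype.linearIndependent_iff]
    intro g hg
    simp only [Fin.sum_univ_three, Matrix.cons_val_zero, Matrix.cons_val_one, Matrix.cons_val] at hg
    have h0 := congrArg (fun v => T.B v c') hg
    have h1 := congrArg (fun v => T.B v d) hg
    have h3 := congrArg (fun v => T.B v c) hg
    simp [hc', hdc', hcc'] at h0
    simp [hcd, hc'd, hd] at h1
    simp [hc, hdc, hc'c] at h3
    intro i
    fin_cases i
    · exact h0
    · exact h1
    · exact h3
  obtain ⟨u, hu⟩ := T.nondeg y hy0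
  have htop := hind.span_eq_top_of_card_eq_finrank (by simp)
  obtain ⟨g, rfl⟩ := (Submodule.mem_span_range_iff_exists_fun F).mp
    (htop ▸ Submodule.mem_top : u ∈ Submodule.span F (Set.range ![c, d, c']))
  simp [Fin.sum_univ_three, hyc, hyc', hyd] at hu

/-- An isotropic vector orthogonal to a non-zero isotropic one is a multiple of it. -/
theorem iso_perp {c d c' x : W} (hc : T.B c c = 0) (hc' : T.B c' c' = 0) (hcc' : T.B c c' = 1)
    (hd : T.B d d ≠ 0) (hdc : T.B d c = 0) (hdc' : T.B d c' = 0) (hx : T.B x x = 0)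
    (hxc : T.B x c = 0) : x = T.B x c' • c := by
  have e := T.hyp_decomp hc hc' hcc' hd hdc hdc' x
  rw [hxc, zero_smul, add_zero] at e
  have hcd : T.B c d = 0 := by rw [T.symm, hdc]
  have h := hx
  rw [e] at h
  simp [hc, hdc, hcd, hd] at h
  rw [h, zero_div, zero_smul, add_zero] at e
  exact e

/-- The reflection in an anisotropic vector. -/
def refl (a : Fin 3 → F) (ha : T.B a a ≠ 0) : (Fin 3 → F) ≃ₗ[F] (Fin 3 → F) :=
  LinearEquiv.ofInvolutive (LinearMap.id - (2 / T.B a a) • (T.B.flip a).smulRight a) fun x => by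
    show (x - (2 / T.B a a) • (T.B x a • a)) -
      (2 / T.B a a) • (T.B (x - (2 / T.B a a) • (T.B x a • a)) a • a) = x
    simp only [map_sub, map_smul, LinearMap.sub_apply, LinearMap.smul_apply, smul_eq_mul]
    match_scalars <;> field_simp <;> ring

theorem refl_apply {a : W} (ha : T.B a a ≠ 0) (x : W) :
    T.refl a ha x = x - (2 / T.B a a * T.B x a) • a := by
  show x - (2 / T.B a a) • (T.B x a • a) = _
  rw [smul_smul]

theorem refl_iso {a : W} (ha : T.B a a ≠ 0) : T.IsoW (T.refl a ha) := by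
  intro x y
  simp only [T.refl_apply ha, map_sub, map_smul, LinearMap.sub_apply, LinearMap.smul_apply, smul_eq_mul,
    T.symm a y]
  field_simp
  ring

theorem refl_self {a : W} (ha : T.B a a ≠ 0) : T.refl a ha a = -a := by
  rw [T.refl_apply, div_mul_cancel₀ _ ha, two_smul]; abel

theorem refl_perp {a x : W} (ha : T.B a a ≠ 0) (h : T.B x a = 0) : T.refl a ha x = x := by
  rw [T.refl_apply, h, mul_zero, zero_smul, sub_zero]

theorem refl_invol {a : W} (ha : T.B a a ≠ 0) (x : W) : T.refl a ha (T.refl a ha x) = x :=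
  (T.refl a ha).left_inv x

/-- Anisotropic vectors of the same value are related by an isometry. -/
theorem exists_iso_move (h2 : (2 : F) ≠ 0) {x y : W} (hx : T.B x x ≠ 0) (h : T.B y y = T.B x x) :
    ∃ σ : W ≃ₗ[F] W, T.IsoW σ ∧ σ x = y := by
  have hy : T.B y y ≠ 0 := h ▸ hx
  by_cases hd : T.B (x - y) (x - y) = 0
  swap
  · refine ⟨_, T.refl_iso hd, ?_⟩
    have hxy : T.B x (x - y) * 2 = T.B (x - y) (x - y) := by
      simp [h, T.symm y x]; ring
    rw [T.refl_apply, show 2 / T.B (x - y) (x - y) * T.B x (x - y) = 1 by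
      rw [div_mul_eq_mul_div, mul_comm, hxy, div_self hd], one_smul]
    abel
  · have hxy : T.B x y = T.B x x := by
      simp [h, T.symm y x] at hd
      have h' : (2 : F) * (T.B x x - T.B x y) = 0 := by linear_combination hd
      exact (sub_eq_zero.mp ((mul_eq_zero.mp h').resolve_left h2)).symm
    have hs : T.B (x + y) (x + y) ≠ 0 := by
      simp [h, T.symm y x, hxy]
      intro h'
      have : (2 : F) * 2 * T.B x x = 0 := by linear_combination h'
      simp [h2, hx] at this
    refine ⟨(T.refl _ hs).trans (T.refl y hy), fun a b => ?_, ?_⟩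
    · show T.B (T.refl y hy (T.refl _ hs a)) (T.refl y hy (T.refl _ hs b)) = _
      rw [T.refl_iso hy, T.refl_iso hs]
    · show T.refl y hy (T.refl _ hs x) = y
      have e : T.refl _ hs x = -y := by
        have h1 : 2 / T.B (x + y) (x + y) * T.B x (x + y) = 1 := by
          rw [div_mul_eq_mul_div, div_eq_one_iff_eq hs]
          simp [h, T.symm y x, hxy]; ring
        rw [T.refl_apply, h1, one_smul]; abel
      rw [e, map_neg, T.refl_self hy, neg_neg]

end TFrame

end CfsgLib.SpSix
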