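import Cfsg.Agent.SpSix.TensorPlanes

/-!
# Overgroups of `Sp_2 ⊗ O_3`: planes orthogonal to a pure isotropic plane
-/

set_option autoImplicit false
set_option linter.unusedSectionVars false

namespace CfsgLib.SpSix

open Matrix Cfsg.Geo CfsgLib.MaxSub
open scoped MatrixGroups

variable {F : Type*} [Field F] [Fintype F]

local notation "W" => (Fin 3 → F)
local notation "V" => (Fin 3 ⊕ Fin 3 → F)
local notation "ω" => Cfsg.sympForm 3 F
local notation "Mat" => Matrix (Fin 3 ⊕ Fin 3) (Fin 3 ⊕ Fin 3) F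

namespace TFrame

variable {T : TFrame F} {M : Subgroup (GL (Fin 3 ⊕ Fin 3) F)}

/-- A hyperbolic frame through an isotropic vector. -/
theorem exists_hyp_through (h2 : (2 : F) ≠ 0) {c : W} (hc0 : c ≠ 0) (hc : T.B c c = 0) :
    ∃ d c', T.B c' c' = 0 ∧ T.B c c' = 1 ∧ T.B d d ≠ 0 ∧ T.B d c = 0 ∧ T.B d c' = 0 := by
  obtain ⟨u, hu⟩ := T.nondeg c hc0
  set c' := (T.B c u)⁻¹ • (u - (T.B u u / (2 * T.B c u)) • c) with hc'
  have h1 : T.B c c' = 1 := by simp [hc', hc, inv_mul_cancel₀ hu]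
  have h1' : T.B c' c = 1 := by rw [T.symm, h1]
  have h3 : T.B c' c' = 0 := by
    simp [hc', hc, T.symm u c]
    right
    field_simp
    ring
  have hs : T.B (c + c') (c + c') ≠ 0 := by
    simp [hc, h3, h1, h1']
    intro h'; exact h2 (by linear_combination h')
  have hm : T.B (c - c') (c - c') ≠ 0 := by
    simp [hc, h3, h1, h1']
    intro h'; exact h2 (by linear_combination -h')
  obtain ⟨d, hd, hd1, hd2, -⟩ := T.exists_orth hs hm (by simp [hc, h3, h1, h1'])
  simp at hd1 hd2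
  exact ⟨d, c', h3, h1, hd,
    (mul_eq_zero.mp (show (2 : F) * T.B d c = 0 by linear_combination hd1 + hd2)).resolve_left h2,
    (mul_eq_zero.mp (show (2 : F) * T.B d c' = 0 by linear_combination hd1 - hd2)).resolve_left h2⟩

/-- A normalised plane orthogonal to `F² ⊗ c`. -/
theorem pureTv_of_iso_normal (hM : T.Over M) (h2 : (2 : F) ≠ 0) (hq : 5 ≤ Fintype.card F)
    {c d c' : W} (hc : T.B c c = 0) (hcc' : T.B c c' = 1) (hd : T.B d d ≠ 0) (hdc : T.B d c = 0)
    (hdc' : T.B d c' = 0) {P m r n : F}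
    (hinv : InvPlane M (T.vec (d + P • c) (m • c)) (T.vec (r • c) (d + n • c)))
    (hnp : ¬ T.IsPure (T.vec (d + P • c) (m • c)) (T.vec (r • c) (d + n • c))) : T.PureTv M := by
  have hcd : T.B c d = 0 := by rw [T.symm, hdc]
  by_cases hm : m = 0
  · subst hm
    have e : T.vec (d + P • c) ((0 : F) • c) =
        T.vec ((1 : F) • (d + P • c)) ((0 : F) • (d + P • c)) := by simp
    rw [e] at hinv hnp
    exact pureTv_of_pure_mem hM h2 hq (z := d + P • c) (by simp [hc, hdc, hcd, hd])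
      (Or.inl one_ne_zero) hinv hnp
  set p := T.vec (d + P • c) (m • c) with hp
  set q := T.vec (r • c) (d + n • c) with hq'
  obtain ⟨δ, hδ⟩ : ∃ δ, δ = T.B d d := ⟨_, rfl⟩
  have hδ0 : δ ≠ 0 := hδ ▸ hd
  have hω : ω p q = δ := by rw [hp, hq', T.form_vec]; simp [hc, hdc, hcd, hδ]
  obtain ⟨hpq, R, hR, hRx⟩ := hinv
  have hR' : ∀ u v u' v' : F, (R : Mat) *ᵥ T.vec (u • d + v • c) (u' • d + v' • c) =
      T.vec ((-u) • d + (v - 2 * P * u - 2 * r * u') • c)
        ((-u') • d + (v' - 2 * m * u - 2 * n * u') • c) := by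
    intro u v u' v'
    have e1 : ω (T.vec (u • d + v • c) (u' • d + v' • c)) q = u * δ := by
      rw [hq', T.form_vec]; simp [hc, hdc, hcd, hδ]
    have e2 : ω (T.vec (u • d + v • c) (u' • d + v' • c)) p = -(u' * δ) := by
      rw [hp, T.form_vec]; simp [hc, hdc, hcd, hδ]
    rw [hRx, hω, e1, e2, hp, hq', T.vec_smul, T.vec_smul, T.vec_sub, T.vec_smul, T.vec_sub]
    congr 1 <;> match_scalars <;> field_simp <;> ring
  obtain ⟨S, hS, hSx⟩ := hM.iso (T.refl_iso hd)
  have hσ : ∀ u v : F, T.refl d hd (u • d + v • c) = (-u) • d + v • c := fun u v => by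
    rw [map_add, map_smul, map_smul, T.refl_self, T.refl_perp hd hcd, smul_neg, neg_smul]
  have hj : ∀ u v u' v' : F, ((R * S : GL (Fin 3 ⊕ Fin 3) F) : Mat) *ᵥ
      T.vec (u • d + v • c) (u' • d + v' • c) =
      T.vec (u • d + (v + 2 * P * u + 2 * r * u') • c) (u' • d + (v' + 2 * m * u + 2 * n * u') • c) := by
    intro u v u' v'
    rw [Units.val_mul, ← mulVec_mulVec, hSx, hσ, hσ, hR']
    congr 1 <;> module
  have hj' : ∀ u v u' v' : F, ((S * R : GL (Fin 3 ⊕ Fin 3) F) : Mat) *ᵥ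
      T.vec (u • d + v • c) (u' • d + v' • c) =
      T.vec (u • d + (v - 2 * P * u - 2 * r * u') • c) (u' • d + (v' - 2 * m * u - 2 * n * u') • c) := by
    intro u v u' v'
    rw [Units.val_mul, ← mulVec_mulVec, hR', hSx, hσ, hσ]
    congr 1 <;> module
  obtain ⟨A, hA, hAx⟩ := hM.sl (a := 1) (b := 1) (c := 0) (d := 1) (by ring)
  obtain ⟨A', hA', hAx'⟩ := hM.sl (a := 1) (b := -1) (c := 0) (d := 1) (by ring)
  have hA2 : ∀ u v u' v' : F, (A : Mat) *ᵥ T.vec (u • d + v • c) (u' • d + v' • c) =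
      T.vec ((u + u') • d + (v + v') • c) (u' • d + v' • c) := by
    intro u v u' v'; rw [hAx]; congr 1 <;> module
  have hA2' : ∀ u v u' v' : F, (A' : Mat) *ᵥ T.vec (u • d + v • c) (u' • d + v' • c) =
      T.vec ((u - u') • d + (v - v') • c) (u' • d + v' • c) := by
    intro u v u' v'; rw [hAx']; congr 1 <;> module
  set k := (R * S) * A * ((S * R) * A') with hk
  have hkM : k ∈ M := M.mul_mem (M.mul_mem (M.mul_mem hR hS) hA) (M.mul_mem (M.mul_mem hS hR) hA')
  have hkx : ∀ u u' : F, (k : Mat) *ᵥ T.vec (u • d + (0 : F) • c) (u' • d + (0 : F) • c) =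
      T.vec (u • d + (2 * u' * (P + m - n) - 2 * m * u) • c) (u' • d + (2 * m * u') • c) := by
    intro u u'
    rw [hk, Units.val_mul (R * S * A), ← mulVec_mulVec, Units.val_mul (S * R), ← mulVec_mulVec, hA2',
      hj', Units.val_mul (R * S), ← mulVec_mulVec, hA2, hj]
    congr 1 <;> module
  have h := (inv_pure hM hd).map hM.le hkM
  have e1 := hkx 1 0
  have e2 := hkx 0 1
  simp only [one_smul, zero_smul, add_zero, zero_add, mul_zero, mul_one, zero_mul, zero_sub,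
    sub_zero] at e1 e2
  rw [e1, e2] at h
  set z := d + (-(2 * m)) • c with hz
  have hzz : T.B z z ≠ 0 := by simp [hz, hc, hdc, hcd, hd]
  have e : T.vec z 0 = T.vec ((1 : F) • z) ((0 : F) • z) := by simp
  rw [e] at h
  refine pureTv_of_pure_mem hM h2 hq hzz (Or.inl one_ne_zero) h ?_
  rintro ⟨w, a, b, a', b', h1, h3⟩
  obtain ⟨h1, -⟩ := T.vec_inj h1
  obtain ⟨-, h3⟩ := T.vec_inj h3
  rw [one_smul] at h1
  have f1 := congrArg (fun x => T.B x d) h1
  have f2 := congrArg (fun x => T.B x c') h1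
  have f3 := congrArg (fun x => T.B x d) h3
  have f4 := congrArg (fun x => T.B x c') h3
  simp [hz, hcd, hcc', hdc'] at f1 f2 f3 f4
  have ha : a ≠ 0 := by
    rintro rfl
    exact hd (by linear_combination f1)
  have hab : a = b' := by
    have : (a - b') * T.B w d = 0 := by linear_combination f3 - f1
    rcases mul_eq_zero.mp this with h' | h'
    · exact sub_eq_zero.mp h'
    · exact absurd (by rw [f1, h', mul_zero]) hd
  subst hab
  have : (2 * 2) * m = 0 := by linear_combination f4 - f2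
  simp [h2, hm] at this

/-- A non-pure plane orthogonal to a pure isotropic plane. -/
theorem pureTv_of_iso_plane (hM : T.Over M) (h2 : (2 : F) ≠ 0) (hq : 5 ≤ Fintype.card F) {p q : V}
    (hinv : InvPlane M p q) (hnp : ¬ T.IsPure p q) {c : W} (hc0 : c ≠ 0) (hc : T.B c c = 0)
    (hperp : PerpPlane T c p q) : T.PureTv M := by
  obtain ⟨d, c', hc', hcc', hd, hdc, hdc'⟩ := exists_hyp_through (T := T) h2 hc0 hc
  have hcd : T.B c d = 0 := by rw [T.symm, hdc]
  have dec : ∀ x, T.B x c = 0 → ∃ u v : F, x = u • d + v • c := fun x hx =>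
    ⟨T.B x d / T.B d d, T.B x c', by
      conv_lhs => rw [T.hyp_decomp hc hc' hcc' hd hdc hdc' x, hx, zero_smul, add_zero, add_comm]⟩
  obtain ⟨a₁, b₁, rfl⟩ := T.vec_surj p
  obtain ⟨a₂, b₂, rfl⟩ := T.vec_surj q
  obtain ⟨x₁, u₁, rfl⟩ := dec a₁ hperp.comp.1
  obtain ⟨y₁, v₁, rfl⟩ := dec b₁ hperp.comp.2
  obtain ⟨x₂, u₂, rfl⟩ := dec a₂ hperp.swap.comp.1
  obtain ⟨y₂, v₂, rfl⟩ := dec b₂ hperp.swap.comp.2
  obtain ⟨D, hD⟩ : ∃ D, D = x₁ * y₂ - x₂ * y₁ := ⟨_, rfl⟩
  have hD0 : D ≠ 0 := by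
    intro h
    apply hinv.1
    rw [hD] at h
    rw [T.form_vec]
    simp [hc, hdc, hcd]
    linear_combination T.B d d * h
  have hdet : y₂ / D * (x₁ / D) - -y₁ / D * (-x₂ / D) ≠ 0 := by
    rw [show y₂ / D * (x₁ / D) - -y₁ / D * (-x₂ / D) = 1 / D by
      field_simp; rw [hD]; ring]
    exact one_div_ne_zero hD0
  have hi := hinv.change hdet
  have hn := not_pure_change hnp hdet
  have e1 : (y₂ / D) • T.vec (x₁ • d + u₁ • c) (y₁ • d + v₁ • c) +
      (-y₁ / D) • T.vec (x₂ • d + u₂ • c) (y₂ • d + v₂ • c) =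
      T.vec (d + ((y₂ * u₁ - y₁ * u₂) / D) • c) (((y₂ * v₁ - y₁ * v₂) / D) • c) := by
    rw [T.vec_smul, T.vec_smul, T.vec_add]
    congr 1 <;> match_scalars <;> field_simp <;> (try rw [hD]) <;> ring
  have e2 : (-x₂ / D) • T.vec (x₁ • d + u₁ • c) (y₁ • d + v₁ • c) +
      (x₁ / D) • T.vec (x₂ • d + u₂ • c) (y₂ • d + v₂ • c) =
      T.vec (((x₁ * u₂ - x₂ * u₁) / D) • c) (d + ((x₁ * v₂ - x₂ * v₁) / D) • c) := by
    rw [T.vec_smul, T.vec_smul, T.vec_add]
    congr 1 <;> match_scalars <;> field_simp <;> (try rw [hD]) <;> ring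
  rw [e1, e2] at hi hn
  exact pureTv_of_iso_normal hM h2 hq hc hcc' hd hdc hdc' hi hn

end TFrame

end CfsgLib.SpSix
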