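import Cfsg.Agent.SpSix.TensorPerp

/-!
# Overgroups of `Sp_2 ⊗ O_3`: every non-pure plane, and the reduction to one such plane
-/

set_option autoImplicit false
set_option linter.unusedSectionVars false

namespace CfsgLib.SpSix

open Matrix Cfsg.Geo CfsgLib.MaxSub
open scoped MatrixGroups

variable {F : Type*} [Field F] [Fintype F]

local notation "W" => (Fin 3 → F)
local notation "V" => (Fin 3 ⊕ Fin 3 → F)
local notation "ω" => Cfsg.sympForm 3 F
local notation "Mat" => Matrix (Fin 3 ⊕ Fin 3) (Fin 3 ⊕ Fin 3) F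

/-- A quadratic vanishing at all non-zero scalars is zero. -/
theorem quadratic_eq_zero (h2 : (2 : F) ≠ 0) (hq : 5 ≤ Fintype.card F) {A B C : F}
    (h : ∀ k : F, k ≠ 0 → A + B * k + C * (k * k) = 0) : A = 0 ∧ B = 0 ∧ C = 0 := by
  have e1 := h 1 one_ne_zero
  have e2 := h (-1) (neg_ne_zero.mpr one_ne_zero)
  have hB : B = 0 := (mul_eq_zero.mp (show (2 : F) * B = 0 by linear_combination e1 - e2)).resolve_left h2
  obtain ⟨k, hk, hk1⟩ := TFrame.exists_sq_ne hq (1 : F)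
  have e3 := h k hk
  have hC : C = 0 := (mul_eq_zero.mp (show (k * k - 1) * C = 0 by
    linear_combination e3 - e1 - (k - 1) * hB)).resolve_left (sub_ne_zero.mpr hk1)
  exact ⟨by linear_combination e1 - hB - hC, hB, hC⟩

namespace TFrame

variable {T : TFrame F} {M : Subgroup (GL (Fin 3 ⊕ Fin 3) F)}

/-- Two vectors orthogonal to a non-zero isotropic one have degenerate Gram matrix. -/
theorem gram_zero (h2 : (2 : F) ≠ 0) {w g₁ g₂ : W} (hw0 : w ≠ 0) (hw : T.B w w = 0)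
    (h1 : T.B w g₁ = 0) (h1' : T.B w g₂ = 0) :
    T.B g₁ g₁ * T.B g₂ g₂ - T.B g₁ g₂ * T.B g₁ g₂ = 0 := by
  obtain ⟨d, c', hc', hcc', hd, hdc, hdc'⟩ := exists_hyp_through (T := T) h2 hw0 hw
  have hcd : T.B w d = 0 := by rw [T.symm, hdc]
  have key : ∀ x, T.B w x = 0 → ∃ a b : F, x = a • w + b • d := fun x hx =>
    ⟨T.B x c', T.B x d / T.B d d, by
      conv_lhs => rw [T.hyp_decomp hw hc' hcc' hd hdc hdc' x, T.symm x w, hx, zero_smul, add_zero]⟩
  obtain ⟨a₁, b₁, rfl⟩ := key g₁ h1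
  obtain ⟨a₂, b₂, rfl⟩ := key g₂ h1'
  simp [hw, hcd, hdc]
  ring

/-- An isotropic vector of `W` for each member of `F²`, or a pure transvection. -/
theorem pureTv_or_iso (hM : T.Over M) (h2 : (2 : F) ≠ 0) (hq : 5 ≤ Fintype.card F) {x₁ y₁ x₂ y₂ : W}
    (hinv : InvPlane M (T.vec x₁ y₁) (T.vec x₂ y₂)) (hnp : ¬ T.IsPure (T.vec x₁ y₁) (T.vec x₂ y₂))
    {a b : F} (hab : a ≠ 0 ∨ b ≠ 0) : T.PureTv M ∨ ∃ w, w ≠ 0 ∧ T.B w w = 0 ∧
      T.B w (a • y₁ - b • x₁) = 0 ∧ T.B w (a • y₂ - b • x₂) = 0 := by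
  obtain ⟨w, hw0, h1, h1'⟩ := T.exists_perp (a • y₁ - b • x₁) (a • y₂ - b • x₂)
  by_cases hw : T.B w w = 0
  · exact Or.inr ⟨w, hw0, hw, h1, h1'⟩
  have e : ∀ x y : W, ω (T.vec (a • w) (b • w)) (T.vec x y) = T.B w (a • y - b • x) := fun x y => by
    rw [T.form_vec]; simp [T.symm x w]
  rcases pureTv_or_perp hM h2 hq hinv hw hab (by rw [e, h1]) (by rw [e, h1']) with h | h
  · exact Or.inl h
  · exact Or.inl (pureTv_of_perp hM h2 hq hinv hnp hw h)

/-- The Gram determinants vanish unless a pure transvection occurs. -/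
theorem gram_of_not_pureTv (hM : T.Over M) (h2 : (2 : F) ≠ 0) (hq : 5 ≤ Fintype.card F)
    (hP : ¬ T.PureTv M) {x₁ y₁ x₂ y₂ : W} (hinv : InvPlane M (T.vec x₁ y₁) (T.vec x₂ y₂))
    (hnp : ¬ T.IsPure (T.vec x₁ y₁) (T.vec x₂ y₂)) (k : F) :
    T.B (y₁ - k • x₁) (y₁ - k • x₁) * T.B (y₂ - k • x₂) (y₂ - k • x₂) -
      T.B (y₁ - k • x₁) (y₂ - k • x₂) * T.B (y₁ - k • x₁) (y₂ - k • x₂) = 0 := by
  obtain ⟨w, hw0, hw, h1, h1'⟩ :=
    (pureTv_or_iso hM h2 hq hinv hnp (a := 1) (b := k) (Or.inl one_ne_zero)).resolve_left hP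
  rw [one_smul] at h1 h1'
  exact gram_zero h2 hw0 hw h1 h1'

/-- A plane in general position with respect to a hyperbolic frame. -/
theorem coeff_of_not_pureTv (hM : T.Over M) (h2 : (2 : F) ≠ 0) (hq : 5 ≤ Fintype.card F)
    (hP : ¬ T.PureTv M) {c d c' : W} (hc : T.B c c = 0) (hc' : T.B c' c' = 0) (hcc' : T.B c c' = 1)
    (hd : T.B d d ≠ 0) (hdc : T.B d c = 0) (hdc' : T.B d c' = 0) {α β γ ε : F}
    (hinv : InvPlane M (T.vec (d + γ • c') (α • c)) (T.vec (ε • c') (d + β • c)))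
    (hnp : ¬ T.IsPure (T.vec (d + γ • c') (α • c)) (T.vec (ε • c') (d + β • c))) :
    α ≠ 0 ∧ γ = 0 ∧ β = 0 ∧ α * ε = -(2 * T.B d d) := by
  have hc'c : T.B c' c = 1 := by rw [T.symm, hcc']
  have hcd : T.B c d = 0 := by rw [T.symm, hdc]
  have hc'd : T.B c' d = 0 := by rw [T.symm, hdc']
  obtain ⟨δ, hδ⟩ : ∃ δ, δ = T.B d d := ⟨_, rfl⟩
  have hδ0 : δ ≠ 0 := hδ ▸ hd
  set S := δ + α * ε + γ * β with hS
  obtain ⟨hA, hB, hC⟩ := quadratic_eq_zero h2 hq
    (A := -(2 * δ * (α * γ))) (B := δ * δ + 4 * (α * γ) * (β * ε) - S * S) (C := -(2 * δ * (β * ε)))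
    (fun k hk => by
      have h := gram_of_not_pureTv hM h2 hq hP hinv hnp k
      simp [hc, hc', hcc', hc'c, hcd, hdc, hc'd, hdc', ← hδ] at h
      refine mul_right_cancel₀ hk ?_
      rw [zero_mul, hS]
      linear_combination h)
  have hag : α * γ = 0 := (mul_eq_zero.mp (neg_eq_zero.mp hA)).resolve_left (mul_ne_zero h2 hδ0)
  have hbe : β * ε = 0 := (mul_eq_zero.mp (neg_eq_zero.mp hC)).resolve_left (mul_ne_zero h2 hδ0)
  have hα : α ≠ 0 := by
    rintro rfl
    apply hP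
    have e : T.vec (d + γ • c') ((0 : F) • c) =
        T.vec ((1 : F) • (d + γ • c')) ((0 : F) • (d + γ • c')) := by simp
    rw [e] at hinv hnp
    exact pureTv_of_pure_mem hM h2 hq (by simp [hc', hdc', hc'd, hd]) (Or.inl one_ne_zero) hinv hnp
  have hε : ε ≠ 0 := by
    rintro rfl
    apply hP
    have e : T.vec ((0 : F) • c') (d + β • c) =
        T.vec ((0 : F) • (d + β • c)) ((1 : F) • (d + β • c)) := by simp
    have hn : ¬ T.IsPure (T.vec ((0 : F) • c') (d + β • c)) (T.vec (d + γ • c') (α • c)) := by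
      simpa using not_pure_change hnp (a := 0) (b := 1) (c := 1) (d := 0) (by simp)
    have hi := hinv.swap
    rw [e] at hi hn
    exact pureTv_of_pure_mem hM h2 hq (by simp [hc, hdc, hcd, hd]) (Or.inr one_ne_zero) hi hn
  have hγ : γ = 0 := (mul_eq_zero.mp hag).resolve_left hα
  have hβ : β = 0 := (mul_eq_zero.mp hbe).resolve_right hε
  refine ⟨hα, hγ, hβ, ?_⟩
  subst hγ hβ
  rw [hS] at hB
  have : α * ε * (α * ε + 2 * δ) = 0 := by linear_combination -hB
  rw [← hδ]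
  linear_combination (mul_eq_zero.mp this).resolve_left (mul_ne_zero hα hε)

/-- A non-pure plane with reflection in the overgroup gives a pure transvection. -/
theorem pureTv_of_plane (hM : T.Over M) (h2 : (2 : F) ≠ 0) (hq : 5 ≤ Fintype.card F) {p q : V}
    (hinv : InvPlane M p q) (hnp : ¬ T.IsPure p q) : T.PureTv M := by
  by_contra hP
  obtain ⟨x₁, y₁, rfl⟩ := T.vec_surj p
  obtain ⟨x₂, y₂, rfl⟩ := T.vec_surj q
  obtain ⟨c, hc0, hc, hy1, hy2⟩ :=
    (pureTv_or_iso hM h2 hq hinv hnp (a := 1) (b := 0) (Or.inl one_ne_zero)).resolve_left hP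
  obtain ⟨e, he0, he, hx1, hx2⟩ :=
    (pureTv_or_iso hM h2 hq hinv hnp (a := 0) (b := 1) (Or.inr one_ne_zero)).resolve_left hP
  simp only [one_smul, zero_smul, sub_zero, zero_sub, map_neg, neg_eq_zero] at hy1 hy2 hx1 hx2
  by_cases hce : T.B c e = 0
  · -- one isotropic vector for both
    obtain ⟨d, c', hc', hcc', hd, hdc, hdc'⟩ := exists_hyp_through (T := T) h2 hc0 hc
    have hk := T.iso_perp hc hc' hcc' hd hdc hdc' he (by rw [T.symm]; exact hce)
    have hk0 : T.B e c' ≠ 0 := fun h => he0 (by rw [hk, h, zero_smul])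
    rw [hk] at hx1 hx2
    simp [hk0] at hx1 hx2
    refine hP (pureTv_of_iso_plane hM h2 hq hinv hnp hc0 hc (perpPlane_of c ⟨?_, ?_, ?_, ?_⟩)) <;>
      (rw [T.form_vec]; simp [hy1, hy2, T.symm x₁ c, T.symm x₂ c, hx1, hx2])
  set c' := (T.B c e)⁻¹ • e with hc'def
  have hc' : T.B c' c' = 0 := by simp [hc'def, he]
  have hcc' : T.B c c' = 1 := by simp [hc'def, inv_mul_cancel₀ hce]
  have hc'c : T.B c' c = 1 := by rw [T.symm, hcc']
  have hx1' : T.B x₁ c' = 0 := by simp [hc'def, T.symm x₁ e, hx1]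
  have hx2' : T.B x₂ c' = 0 := by simp [hc'def, T.symm x₂ e, hx2]
  rw [T.symm] at hy1 hy2
  obtain ⟨d, hd, hdc, hdc'⟩ : ∃ d, T.B d d ≠ 0 ∧ T.B d c = 0 ∧ T.B d c' = 0 := by
    have hs : T.B (c + c') (c + c') ≠ 0 := by
      simp [hc, hc', hcc', hc'c]
      intro h'; exact h2 (by linear_combination h')
    have hm : T.B (c - c') (c - c') ≠ 0 := by
      simp [hc, hc', hcc', hc'c]
      intro h'; exact h2 (by linear_combination -h')
    obtain ⟨d, hd, hd1, hd2, -⟩ := T.exists_orth hs hm (by simp [hc, hc', hcc', hc'c])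
    simp at hd1 hd2
    exact ⟨d, hd,
      (mul_eq_zero.mp (show (2 : F) * T.B d c = 0 by linear_combination hd1 + hd2)).resolve_left h2,
      (mul_eq_zero.mp (show (2 : F) * T.B d c' = 0 by linear_combination hd1 - hd2)).resolve_left h2⟩
  have hcd : T.B c d = 0 := by rw [T.symm, hdc]
  have hc'd : T.B c' d = 0 := by rw [T.symm, hdc']
  have decy : ∀ y, T.B y c = 0 → ∃ u v : F, y = u • d + v • c := fun y hy =>
    ⟨T.B y d / T.B d d, T.B y c', by
      conv_lhs => rw [T.hyp_decomp hc hc' hcc' hd hdc hdc' y, hy, zero_smul, add_zero, add_comm]⟩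
  have decx : ∀ x, T.B x c' = 0 → ∃ u v : F, x = u • d + v • c' := fun x hx =>
    ⟨T.B x d / T.B d d, T.B x c, by
      conv_lhs => rw [T.hyp_decomp hc hc' hcc' hd hdc hdc' x, hx, zero_smul, zero_add]⟩
  obtain ⟨X₁, u₁, rfl⟩ := decx x₁ hx1'
  obtain ⟨X₂, u₂, rfl⟩ := decx x₂ hx2'
  obtain ⟨Y₁, v₁, rfl⟩ := decy y₁ hy1
  obtain ⟨Y₂, v₂, rfl⟩ := decy y₂ hy2
  obtain ⟨D, hD⟩ : ∃ D, D = X₁ * Y₂ - X₂ * Y₁ := ⟨_, rfl⟩
  obtain ⟨δ, hδ⟩ : ∃ δ, δ = T.B d d := ⟨_, rfl⟩
  by_cases hD0 : D = 0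
  · rw [hD] at hD0
    obtain ⟨a, b, hab, hX, hY⟩ : ∃ a b : F, (a ≠ 0 ∨ b ≠ 0) ∧
        a * X₁ + b * X₂ = 0 ∧ a * Y₁ + b * Y₂ = 0 := by
      by_cases hX1 : X₁ = 0
      swap
      · exact ⟨-X₂, X₁, Or.inr hX1, by ring, by linear_combination hD0⟩
      by_cases hY1 : Y₁ = 0
      swap
      · exact ⟨-Y₂, Y₁, Or.inr hY1, by linear_combination -hD0, by ring⟩
      exact ⟨1, 0, Or.inl one_ne_zero, by simp [hX1], by simp [hY1]⟩
    obtain ⟨a', b', hab'⟩ := exists_complement hab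
    have hdet : a * b' - b * a' ≠ 0 := by rw [hab']; exact one_ne_zero
    have hi := hinv.change hdet
    have hn := not_pure_change hnp hdet
    rw [T.vec_smul, T.vec_smul, T.vec_add, T.vec_smul, T.vec_smul, T.vec_add] at hi hn
    set s := a * u₁ + b * u₂
    set t := a * v₁ + b * v₂
    set X := a' * X₁ + b' * X₂
    set Y := a' * Y₁ + b' * Y₂
    set x := a' * u₁ + b' * u₂
    set y := a' * v₁ + b' * v₂
    have e1 : a • (X₁ • d + u₁ • c') + b • (X₂ • d + u₂ • c') = s • c' := by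
      match_scalars <;> first | linear_combination hX | linear_combination -hX | ring
    have e2 : a • (Y₁ • d + v₁ • c) + b • (Y₂ • d + v₂ • c) = t • c := by
      match_scalars <;> first | linear_combination hY | linear_combination -hY | ring
    have e3 : a' • (X₁ • d + u₁ • c') + b' • (X₂ • d + u₂ • c') = X • d + x • c' := by module
    have e4 : a' • (Y₁ • d + v₁ • c) + b' • (Y₂ • d + v₂ • c) = Y • d + y • c := by module
    rw [e1, e2, e3, e4] at hi hn
    obtain ⟨hA, hB, hC⟩ := quadratic_eq_zero h2 hq (A := -(2 * s * t * δ * (Y * Y)))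
      (B := 4 * s * t * δ * (X * Y) - (t * x - s * y) * (t * x - s * y))
      (C := -(2 * s * t * δ * (X * X))) (fun k hk => by
        have h := gram_of_not_pureTv hM h2 hq hP hi hn k
        simp [hc, hc', hcc', hc'c, hcd, hdc, hc'd, hdc', ← hδ] at h
        refine mul_right_cancel₀ hk ?_
        rw [zero_mul]
        linear_combination h)
    have hne : t * x - s * y ≠ 0 := by
      intro h
      apply hi.1
      rw [T.form_vec]
      simp [hc, hc', hcc', hc'c, hcd, hdc, hc'd, hdc']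
      linear_combination -h
    apply hne
    have : (t * x - s * y) * (t * x - s * y) * ((t * x - s * y) * (t * x - s * y)) = 0 := by
      linear_combination (-(t * x - s * y) * (t * x - s * y) - 4 * s * t * δ * (X * Y)) * hB +
        (-(8 * s * t * δ * (X * X))) * hA
    simpa using this
  have hdet : Y₂ / D * (X₁ / D) - -Y₁ / D * (-X₂ / D) ≠ 0 := by
    rw [show Y₂ / D * (X₁ / D) - -Y₁ / D * (-X₂ / D) = 1 / D by field_simp; rw [hD]; ring]
    exact one_div_ne_zero hD0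
  have hi := hinv.change hdet
  have hn := not_pure_change hnp hdet
  have e1 : (Y₂ / D) • T.vec (X₁ • d + u₁ • c') (Y₁ • d + v₁ • c) +
      (-Y₁ / D) • T.vec (X₂ • d + u₂ • c') (Y₂ • d + v₂ • c) =
      T.vec (d + ((Y₂ * u₁ - Y₁ * u₂) / D) • c') (((Y₂ * v₁ - Y₁ * v₂) / D) • c) := by
    rw [T.vec_smul, T.vec_smul, T.vec_add]
    congr 1 <;> match_scalars <;> field_simp <;> (try rw [hD]) <;> ring
  have e2 : (-X₂ / D) • T.vec (X₁ • d + u₁ • c') (Y₁ • d + v₁ • c) +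
      (X₁ / D) • T.vec (X₂ • d + u₂ • c') (Y₂ • d + v₂ • c) =
      T.vec (((X₁ * u₂ - X₂ * u₁) / D) • c') (d + ((X₁ * v₂ - X₂ * v₁) / D) • c) := by
    rw [T.vec_smul, T.vec_smul, T.vec_add]
    congr 1 <;> match_scalars <;> field_simp <;> (try rw [hD]) <;> ring
  rw [e1, e2] at hi hn
  obtain ⟨hα, hγ, hβ, hαε⟩ := coeff_of_not_pureTv hM h2 hq hP hc hc' hcc' hd hdc hdc' hi hn
  generalize (Y₂ * u₁ - Y₁ * u₂) / D = γ at hi hn hγ
  generalize (Y₂ * v₁ - Y₁ * v₂) / D = α at hi hn hα hαε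
  generalize (X₁ * u₂ - X₂ * u₁) / D = ε at hi hn hαε
  generalize (X₁ * v₂ - X₂ * v₁) / D = β at hi hn hβ
  subst hγ hβ
  simp only [zero_smul, add_zero] at hi hn
  -- the image of a pure plane under this reflection
  obtain ⟨hpq, R, hR, hRx⟩ := hi
  have hw : ω (T.vec d (α • c)) (T.vec (ε • c') d) = 3 * δ := by
    rw [T.form_vec]; simp [hc, hc', hcc', hc'c, hcd, hdc, hc'd, hdc', ← hδ]
    rw [← hδ] at hαε
    linear_combination -hαε
  rw [hw] at hpq
  have h3 : (3 : F) ≠ 0 := left_ne_zero_of_mul hpq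
  have hδ0 : δ ≠ 0 := hδ ▸ hd
  have hRd : (R : Mat) *ᵥ T.vec d 0 = (3 : F)⁻¹ • T.vec d ((-2 * α) • c) := by
    have e1 : ω (T.vec d 0) (T.vec (ε • c') d) = δ := by rw [T.form_vec]; simp [← hδ]
    have e2 : ω (T.vec d 0) (T.vec d (α • c)) = 0 := by rw [T.form_vec]; simp [hdc]
    rw [hRx, hw, e1, e2, T.vec_smul, T.vec_smul, T.vec_sub, T.vec_smul, T.vec_sub, T.vec_smul]
    congr 1 <;> match_scalars <;> field_simp <;> ring
  have hRd' : (R : Mat) *ᵥ T.vec 0 d = (3 : F)⁻¹ • T.vec ((-2 * ε) • c') d := by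
    have e1 : ω (T.vec 0 d) (T.vec (ε • c') d) = 0 := by rw [T.form_vec]; simp [hc'd]
    have e2 : ω (T.vec 0 d) (T.vec d (α • c)) = -δ := by rw [T.form_vec]; simp [← hδ]
    rw [hRx, hw, e1, e2, T.vec_smul, T.vec_smul, T.vec_sub, T.vec_smul, T.vec_sub, T.vec_smul]
    congr 1 <;> match_scalars <;> field_simp <;> ring
  have h := ((inv_pure hM hd).map hM.le hR).change (a := 3) (b := 0) (c := 0) (d := 3) (by simp [h3])
  rw [hRd, hRd', zero_smul, zero_smul, add_zero, zero_add, smul_inv_smul₀ h3, smul_inv_smul₀ h3] at h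
  have hn' : ¬ T.IsPure (T.vec d ((-2 * α) • c)) (T.vec ((-2 * ε) • c') d) := by
    rintro ⟨w, a, b, a', b', g1, -⟩
    obtain ⟨g1, g2⟩ := T.vec_inj g1
    have f1 := congrArg (fun v => T.B v d) g1
    have f2 := congrArg (fun v => T.B v d) g2
    have f3 := congrArg (fun v => T.B v c') g2
    simp [hcd, hcc'] at f1 f2 f3
    have hwd : T.B w d ≠ 0 := fun h' => hd (by rw [f1, h', mul_zero])
    rw [f2.resolve_right hwd, zero_mul] at f3
    simp [h2, hα] at f3
  have h' : InvPlane M (T.vec (d + (0 : F) • c') ((-2 * α) • c))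
      (T.vec ((-2 * ε) • c') (d + (0 : F) • c)) := by simpa using h
  obtain ⟨-, -, -, hαε'⟩ := coeff_of_not_pureTv hM h2 hq hP hc hc' hcc' hd hdc hdc' h'
    (by simpa using hn')
  have : (2 * 3) * δ = 0 := by rw [hδ]; linear_combination -hαε' + 4 * hαε
  simp [h2, h3, hδ0] at this

/-- An isometry sending all pure anisotropic planes to pure planes is a tensor product. -/
theorem tensor_of_all_pure (h2 : (2 : F) ≠ 0) (hq : 5 ≤ Fintype.card F) {g : GL (Fin 3 ⊕ Fin 3) F}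
    (hg : g ∈ Cfsg.spGL 3 F) (hall : ∀ x, T.B x x ≠ 0 →
      T.IsPure ((g : Mat) *ᵥ T.vec x 0) ((g : Mat) *ᵥ T.vec 0 x)) :
    ∃ (a b c d : F) (σ : W →ₗ[F] W), a * d - b * c ≠ 0 ∧ Function.Injective σ ∧
      ∀ x y, (g : Mat) *ᵥ T.vec x y = T.vec (a • σ x + b • σ y) (c • σ x + d • σ y) := by
  have hf := mem_spGL_iff.mp hg
  obtain ⟨z, hz⟩ : ∃ z, T.B z z ≠ 0 := by
    obtain ⟨_, d, _, _, _, _, hd, _, _⟩ := T.exists_hyp h2
    exact ⟨d, hd⟩
  obtain ⟨y, w, hy, hyz, hw, hwz, hwy, hspan⟩ := T.exists_orth_basis hz h2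
  obtain ⟨z₁, p, r, q, s, ez, fz⟩ := hall z hz
  have hval : T.B z z = (p * s - q * r) * T.B z₁ z₁ := by
    have h := hf (T.vec z 0) (T.vec 0 z)
    rw [ez, fz, T.form_vec, T.form_vec] at h
    simp at h
    linear_combination -h
  have hD : p * s - q * r ≠ 0 := fun h => hz (by rw [hval, h, zero_mul])
  have hζ : T.B z₁ z₁ ≠ 0 := fun h => hz (by rw [hval, h, mul_zero])
  have key : ∀ x, T.B x x ≠ 0 → T.B x z = 0 → ∃ x₁, (g : Mat) *ᵥ T.vec x 0 = T.vec (p • x₁) (r • x₁) ∧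
      (g : Mat) *ᵥ T.vec 0 x = T.vec (q • x₁) (s • x₁) := by
    intro x hx hxz
    have hzx : T.B z x = 0 := by rw [T.symm, hxz]
    obtain ⟨x₂, p', r', q', s', ex, fx⟩ := hall x hx
    have hval' : T.B x x = (p' * s' - q' * r') * T.B x₂ x₂ := by
      have h := hf (T.vec x 0) (T.vec 0 x)
      rw [ex, fx, T.form_vec, T.form_vec] at h
      simp at h
      linear_combination -h
    have hx2 : T.B x₂ x₂ ≠ 0 := fun h => hx (by rw [hval', h, mul_zero])
    have hD' : p' * s' - q' * r' ≠ 0 := fun h => hx (by rw [hval', h, zero_mul])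
    have hβ : T.B z₁ x₂ = 0 := by
      have h1 := hf (T.vec z 0) (T.vec 0 x)
      have h3 := hf (T.vec z 0) (T.vec x 0)
      rw [ez, fx, T.form_vec, T.form_vec] at h1
      rw [ez, ex, T.form_vec, T.form_vec] at h3
      simp [hzx, T.symm x₂ z₁] at h1 h3
      by_contra hβ
      have i1 : p * s' - q' * r = 0 := (mul_eq_zero.mp
        (show (p * s' - q' * r) * T.B z₁ x₂ = 0 by linear_combination h1)).resolve_right hβ
      have i2 : p * r' - p' * r = 0 := (mul_eq_zero.mp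
        (show (p * r' - p' * r) * T.B z₁ x₂ = 0 by linear_combination h3)).resolve_right hβ
      have j1 : p * (p' * s' - q' * r') = 0 := by linear_combination p' * i1 - q' * i2
      have j2 : r * (p' * s' - q' * r') = 0 := by linear_combination r' * i1 - s' * i2
      apply hD
      rw [(mul_eq_zero.mp j1).resolve_right hD', (mul_eq_zero.mp j2).resolve_right hD']
      ring
    obtain ⟨k, hk0, hk⟩ := exists_sq_ne hq (-(T.B z z) / T.B x x)
    have hzk : T.B (z + k • x) (z + k • x) ≠ 0 := by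
      simp [hzx, hxz]
      intro h
      exact hk (by field_simp; linear_combination h)
    obtain ⟨v, P, R, Q, S, ev, fv⟩ := hall _ hzk
    rw [show T.vec (z + k • x) 0 = T.vec z 0 + k • T.vec x 0 by rw [T.vec_smul, T.vec_add]; simp,
      mulVec_add, mulVec_smul, ez, ex, T.vec_smul, T.vec_add] at ev
    rw [show T.vec 0 (z + k • x) = T.vec 0 z + k • T.vec 0 x by rw [T.vec_smul, T.vec_add]; simp,
      mulVec_add, mulVec_smul, fz, fx, T.vec_smul, T.vec_add] at fv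
    obtain ⟨a1, a2⟩ := T.vec_inj ev
    obtain ⟨a3, a4⟩ := T.vec_inj fv
    have hx2z : T.B x₂ z₁ = 0 := by rw [T.symm, hβ]
    have i1 := congrArg (fun u => T.B u z₁) a1
    have i2 := congrArg (fun u => T.B u z₁) a2
    have i3 := congrArg (fun u => T.B u z₁) a3
    have i4 := congrArg (fun u => T.B u z₁) a4
    have j1 := congrArg (fun u => T.B u x₂) a1
    have j2 := congrArg (fun u => T.B u x₂) a2
    have j3 := congrArg (fun u => T.B u x₂) a3
    have j4 := congrArg (fun u => T.B u x₂) a4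
    simp [hx2z, hβ] at i1 i2 i3 i4 j1 j2 j3 j4
    have hvz : T.B v z₁ ≠ 0 := by
      intro h
      rw [h, mul_zero] at i1 i2
      apply hD
      rw [(mul_eq_zero.mp i1).resolve_right hζ, (mul_eq_zero.mp i2).resolve_right hζ]
      ring
    obtain ⟨μ, hμ⟩ : ∃ μ, μ * (k * T.B x₂ x₂ * T.B v z₁) = T.B v x₂ * T.B z₁ z₁ :=
      ⟨_, div_mul_cancel₀ _ (mul_ne_zero (mul_ne_zero hk0 hx2) hvz)⟩
    have hne := mul_ne_zero (mul_ne_zero hk0 hx2) hvz
    have g1 : p' = μ * p := mul_right_cancel₀ hne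
      (by linear_combination T.B v z₁ * j1 - T.B v x₂ * i1 - p * hμ)
    have g2 : r' = μ * r := mul_right_cancel₀ hne
      (by linear_combination T.B v z₁ * j2 - T.B v x₂ * i2 - r * hμ)
    have g3 : q' = μ * q := mul_right_cancel₀ hne
      (by linear_combination T.B v z₁ * j3 - T.B v x₂ * i3 - q * hμ)
    have g4 : s' = μ * s := mul_right_cancel₀ hne
      (by linear_combination T.B v z₁ * j4 - T.B v x₂ * i4 - s * hμ)
    refine ⟨μ • x₂, ?_, ?_⟩
    · rw [ex, g1, g2, smul_smul, smul_smul, mul_comm μ, mul_comm μ]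
    · rw [fx, g3, g4, smul_smul, smul_smul, mul_comm μ, mul_comm μ]
  obtain ⟨y₁, ey, fy⟩ := key y hy hyz
  obtain ⟨w₁, ew, fw⟩ := key w hw hwz
  let σ : W →ₗ[F] W := ((T.B z z)⁻¹ • (T.B.flip z)).smulRight z₁ +
    ((T.B y y)⁻¹ • (T.B.flip y)).smulRight y₁ + ((T.B w w)⁻¹ • (T.B.flip w)).smulRight w₁
  have hσ : ∀ α β γ : F, σ (α • z + β • y + γ • w) = α • z₁ + β • y₁ + γ • w₁ := fun α β γ => by
    have hzy : T.B z y = 0 := by rw [T.symm, hyz]
    have hzw : T.B z w = 0 := by rw [T.symm, hwz]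
    have hyw : T.B y w = 0 := by rw [T.symm, hwy]
    simp [σ, hyz, hwz, hwy, hzy, hzw, hyw, hz, hy, hw, mul_comm _ (T.B z z), mul_comm _ (T.B y y),
      mul_comm _ (T.B w w)]
  have hgx : ∀ x x', (g : Mat) *ᵥ T.vec x x' = T.vec (p • σ x + q • σ x') (r • σ x + s • σ x') := by
    intro x x'
    obtain ⟨α, β, γ, rfl⟩ := hspan x
    obtain ⟨α', β', γ', rfl⟩ := hspan x'
    rw [show T.vec (α • z + β • y + γ • w) (α' • z + β' • y + γ' • w) =
      α • T.vec z 0 + β • T.vec y 0 + γ • T.vec w 0 +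
        (α' • T.vec 0 z + β' • T.vec 0 y + γ' • T.vec 0 w) by
      simp only [T.vec_smul, T.vec_add, smul_zero, add_zero, zero_add],
      hσ, hσ]
    simp only [mulVec_add, mulVec_smul]
    rw [ez, fz, ey, fy, ew, fw]
    simp only [T.vec_smul, T.vec_add]
    congr 1 <;> module
  refine ⟨p, q, r, s, σ, hD, (injective_iff_map_eq_zero σ).mpr fun x hx => ?_, hgx⟩
  have h := hgx x 0
  rw [map_zero, hx, smul_zero, smul_zero, smul_zero, smul_zero, add_zero, T.vec_zero] at h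
  exact (T.vec_eq_zero (mulVec_injective_iff_isUnit.mpr g.isUnit (h.trans (mulVec_zero _).symm))).1

/-- An overgroup with an element that is not a tensor product contains `Sp`. -/
theorem spGL_le_of_over (hM : T.Over M) (h2 : (2 : F) ≠ 0) (hq : 5 ≤ Fintype.card F)
    {g : GL (Fin 3 ⊕ Fin 3) F} (hg : g ∈ M) (hng : ¬ ∃ (a b c d : F) (σ : W →ₗ[F] W),
      a * d - b * c ≠ 0 ∧ Function.Injective σ ∧
        ∀ x y, (g : Mat) *ᵥ T.vec x y = T.vec (a • σ x + b • σ y) (c • σ x + d • σ y)) :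
    Cfsg.spGL 3 F ≤ M := by
  refine spGL_le_of_forall_spTv fun v c => ?_
  suffices h : T.PureTv M from centreIn_of_pureTv hM h2 hq h v c
  by_contra hP
  exact hng (tensor_of_all_pure h2 hq (hM.le hg) fun x hx => by
    by_contra hnp
    exact hP (pureTv_of_plane hM h2 hq ((inv_pure hM hx).map hM.le hg) hnp))

end TFrame

end CfsgLib.SpSix
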