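import Cfsg.Agent.SpSix.TensorIso

/-!
# Overgroups of `Sp_2 ⊗ O_3`: planes orthogonal to a pure anisotropic plane
-/

set_option autoImplicit false
set_option linter.unusedSectionVars false

namespace CfsgLib.SpSix

open Matrix Cfsg.Geo CfsgLib.MaxSub
open scoped MatrixGroups

variable {F : Type*} [Field F] [Fintype F]

local notation "W" => (Fin 3 → F)
local notation "V" => (Fin 3 ⊕ Fin 3 → F)
local notation "ω" => Cfsg.sympForm 3 F
local notation "Mat" => Matrix (Fin 3 ⊕ Fin 3) (Fin 3 ⊕ Fin 3) F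

theorem exists_avoid_five (hq : 6 ≤ Fintype.card F) (s : Finset F) (hs : s.card ≤ 5) :
    ∃ k, k ∉ s := by
  by_contra h
  push Not at h
  have := Finset.card_le_card (fun k _ => h k : (Finset.univ : Finset F) ⊆ s)
  rw [Finset.card_univ] at this
  omega

/-- For a non-scalar `[[a, c], [b, d]]`, an element of `SL_2` almost commuting with it on one line. -/
theorem exists_conj {a b c d s : F} (hns : ¬(b = 0 ∧ c = 0 ∧ a = d)) (hs : s ≠ 0)
    (hl : (a * d - b * c) * (s * s) ≠ 1) :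
    ∃ h₁ h₂ h₃ h₄ w₁ w₂ μ : F, h₁ * h₄ - h₂ * h₃ = 1 ∧ (w₁ ≠ 0 ∨ w₂ ≠ 0) ∧
      (μ = 1 ∨ μ = (a * d - b * c) * (s * s)) ∧
      h₁ * (a * w₁ + c * w₂) + h₂ * (b * w₁ + d * w₂) =
        μ * (a * (h₁ * w₁ + h₂ * w₂) + c * (h₃ * w₁ + h₄ * w₂)) ∧
      h₃ * (a * w₁ + c * w₂) + h₄ * (b * w₁ + d * w₂) =
        μ * (b * (h₁ * w₁ + h₂ * w₂) + d * (h₃ * w₁ + h₄ * w₂)) ∧
      ¬ ∀ u v : F, h₁ * (a * u + c * v) + h₂ * (b * u + d * v) =
          μ * (a * (h₁ * u + h₂ * v) + c * (h₃ * u + h₄ * v)) ∧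
        h₃ * (a * u + c * v) + h₄ * (b * u + d * v) =
          μ * (b * (h₁ * u + h₂ * v) + d * (h₃ * u + h₄ * v)) := by
  obtain ⟨l, hl'⟩ : ∃ l, l = (a * d - b * c) * (s * s) := ⟨_, rfl⟩
  rw [← hl'] at hl
  have h1l : 1 - l ≠ 0 := sub_ne_zero.mpr (Ne.symm hl)
  by_cases hb : b = 0
  swap
  · obtain ⟨x, hx⟩ : ∃ x, x * (b * s) = 1 - l := ⟨(1 - l) / (b * s), div_mul_cancel₀ _ (mul_ne_zero hb hs)⟩
    refine ⟨1, x, 0, 1, (1 - l) * d - l * b * x, -b * (1 - l), l, by ring,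
      Or.inr (mul_ne_zero (neg_ne_zero.mpr hb) h1l), Or.inr hl', ?_, by ring, ?_⟩
    · refine mul_right_cancel₀ (mul_ne_zero hs hs) ?_
      linear_combination (-(1 - l) ^ 2) * hl' + (-l * (x * (b * s) + (1 - l))) * hx
    · intro h
      have := (h 1 0).2
      exact mul_ne_zero h1l hb (by linear_combination this)
  by_cases hc : c = 0
  · have had : a ≠ d := fun h => hns ⟨hb, hc, h⟩
    refine ⟨1, 1, 0, 1, 1, 0, 1, by ring, Or.inl one_ne_zero, Or.inl rfl, by simp [hb], by simp [hb], ?_⟩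
    intro h
    have := (h 0 1).1
    exact had (by linear_combination -this)
  obtain ⟨x, hx⟩ : ∃ x, x * (c * s) = 1 - l := ⟨(1 - l) / (c * s), div_mul_cancel₀ _ (mul_ne_zero hc hs)⟩
  refine ⟨1, 0, x, 1, -c * (1 - l), (1 - l) * a - l * c * x, l, by ring,
    Or.inl (mul_ne_zero (neg_ne_zero.mpr hc) h1l), Or.inr hl', by ring, ?_, ?_⟩
  · subst hb
    refine mul_right_cancel₀ (mul_ne_zero hs hs) ?_
    linear_combination (-(1 - l) ^ 2) * hl' + (-l * (x * (c * s) + (1 - l))) * hx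
  · intro h
    have := (h 0 1).1
    exact mul_ne_zero h1l hc (by linear_combination this)

namespace TFrame

variable {T : TFrame F} {M : Subgroup (GL (Fin 3 ⊕ Fin 3) F)}

/-- Two vectors spanning a non-pure plane. -/
theorem not_pure_pair {g z y : W} (hgz : T.B g z ≠ 0) (hyz : T.B y z = 0) (hy : y ≠ 0) {a b c d : F}
    (h : ¬(b = 0 ∧ c = 0 ∧ a = d)) :
    ¬ T.IsPure (T.vec (g + a • y) (b • y)) (T.vec (c • y) (g + d • y)) := by
  rintro ⟨w, α, β, γ, ε, h1, h3⟩
  obtain ⟨h1, h1'⟩ := T.vec_inj h1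
  obtain ⟨h3, h3'⟩ := T.vec_inj h3
  have f1 := congrArg (fun x => T.B x z) h1
  have f2 := congrArg (fun x => T.B x z) h1'
  have f3 := congrArg (fun x => T.B x z) h3
  have f4 := congrArg (fun x => T.B x z) h3'
  simp [hyz] at f1 f2 f3 f4
  have hw : T.B w z ≠ 0 := fun h' => hgz (by rw [f1, h', mul_zero])
  rw [f2.resolve_right hw, zero_smul] at h1'
  rw [f3.resolve_right hw, zero_smul] at h3
  have hae : α = ε := mul_right_cancel₀ hw (f1.symm.trans f4)
  rw [hae, ← h3'] at h1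
  exact h ⟨(smul_eq_zero.mp h1').resolve_right hy, (smul_eq_zero.mp h3).resolve_right hy,
    smul_left_injective F hy (add_left_cancel h1)⟩

/-- A reflection interchanging `F² ⊗ y` and `F² ⊗ y'`. -/
theorem pureTv_of_antidiag (hM : T.Over M) (h2 : (2 : F) ≠ 0) (hq : 5 ≤ Fintype.card F)
    {R : GL (Fin 3 ⊕ Fin 3) F} (hR : R ∈ M) (hRR : ∀ x, (R : Mat) *ᵥ ((R : Mat) *ᵥ x) = x)
    {z y y' : W} (hz : T.B z z ≠ 0) (hy : T.B y y ≠ 0) (hy' : T.B y' y' ≠ 0) (hyz : T.B y z = 0)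
    (hfix : ∀ u v : F, (R : Mat) *ᵥ T.vec (u • z) (v • z) = T.vec (u • z) (v • z)) {a b c d : F}
    (hR1 : ∀ u v : F, (R : Mat) *ᵥ T.vec (u • y) (v • y) =
      T.vec ((a * u + c * v) • y') ((b * u + d * v) • y'))
    (hD : a * d - b * c ≠ 0) (hns : ¬(b = 0 ∧ c = 0 ∧ a = d)) {s t : F} (hs : s ≠ 0)
    (hl : (a * d - b * c) * (s * s) ≠ 1) (ht : t ≠ 0) (ht1 : T.B z z + t * t * T.B y y ≠ 0)
    (ht2 : T.B z z + t * t * (((a * d - b * c) * (s * s)) * ((a * d - b * c) * (s * s))) * T.B y y ≠ 0) :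
    T.PureTv M := by
  have hy'0 : y' ≠ 0 := fun h => hy' (by simp [h])
  have hzy : T.B z y = 0 := by rw [T.symm, hyz]
  obtain ⟨D, hDdef⟩ : ∃ D, D = a * d - b * c := ⟨_, rfl⟩
  have hD0 : D ≠ 0 := hDdef ▸ hD
  have hR2 : ∀ u v : F, (R : Mat) *ᵥ T.vec (u • y') (v • y') =
      T.vec (((d * u - c * v) / D) • y) (((-b * u + a * v) / D) • y) := by
    intro u v
    have e : T.vec (u • y') (v • y') =
        (R : Mat) *ᵥ T.vec (((d * u - c * v) / D) • y) (((-b * u + a * v) / D) • y) := by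
      rw [hR1]
      congr 2 <;> field_simp <;> rw [hDdef] <;> ring
    rw [e, hRR]
  obtain ⟨h₁, h₂, h₃, h₄, w₁, w₂, μ, hdet, hw, hμ, he1, he2, hne⟩ := exists_conj hns hs hl
  obtain ⟨g, hg, hgx⟩ := hM.sl hdet
  obtain ⟨g', hg', hgx'⟩ := hM.sl (a := h₄) (b := -h₂) (c := -h₃) (d := h₁)
    (by linear_combination hdet)
  have hgg : ∀ X Y : W, (g : Mat) *ᵥ ((g' : Mat) *ᵥ T.vec X Y) = T.vec X Y := by
    intro X Y
    rw [hgx', hgx]
    congr 1
    · match_scalars
      · linear_combination hdet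
      · ring
    · match_scalars
      · ring
      · linear_combination hdet
  have hgg' : ∀ X Y : W, (g' : Mat) *ᵥ ((g : Mat) *ᵥ T.vec X Y) = T.vec X Y := by
    intro X Y
    rw [hgx, hgx']
    congr 1
    · match_scalars
      · linear_combination hdet
      · ring
    · match_scalars
      · ring
      · linear_combination hdet
  set k := R * g * (R * g') with hk
  have hkM : k ∈ M := M.mul_mem (M.mul_mem hR hg) (M.mul_mem hR hg')
  have hkx : ∀ x, (k : Mat) *ᵥ x = (R : Mat) *ᵥ ((g : Mat) *ᵥ ((R : Mat) *ᵥ ((g' : Mat) *ᵥ x))) :=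
    fun x => by simp only [hk, Units.val_mul, mulVec_mulVec, Matrix.mul_assoc]
  have hgw : ∀ (w : W) (u v : F), (g : Mat) *ᵥ T.vec (u • w) (v • w) =
      T.vec ((h₁ * u + h₂ * v) • w) ((h₃ * u + h₄ * v) • w) := fun w u v => by
    rw [hgx]; congr 1 <;> module
  have hgw' : ∀ (w : W) (u v : F), (g' : Mat) *ᵥ T.vec (u • w) (v • w) =
      T.vec ((h₄ * u + -h₂ * v) • w) ((-h₃ * u + h₁ * v) • w) := fun w u v => by
    rw [hgx']; congr 1 <;> module
  have hkz : ∀ u v : F, (k : Mat) *ᵥ T.vec (u • z) (v • z) = T.vec (u • z) (v • z) := fun u v => by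
    rw [hkx, hgw', hfix, ← hgw', hgg, hfix]
  have hky : ∀ u v : F, ∃ u' v' : F, (k : Mat) *ᵥ T.vec (u • y) (v • y) = T.vec (u' • y) (v' • y) :=
    fun u v => ⟨_, _, by rw [hkx, hgw', hR1, hgw, hR2]⟩
  have hkg : ∀ u v : F, (k : Mat) *ᵥ ((g : Mat) *ᵥ T.vec (u • y) (v • y)) =
      (R : Mat) *ᵥ T.vec ((h₁ * (a * u + c * v) + h₂ * (b * u + d * v)) • y')
        ((h₃ * (a * u + c * v) + h₄ * (b * u + d * v)) • y') := fun u v => by
    rw [hkx, hgg', hR1, hgw]
  set u₀ := h₁ * w₁ + h₂ * w₂ with hu₀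
  set v₀ := h₃ * w₁ + h₄ * w₂ with hv₀
  have huv : u₀ ≠ 0 ∨ v₀ ≠ 0 := by
    by_contra h
    push Not at h
    have e1 : w₁ = h₄ * u₀ - h₂ * v₀ := by rw [hu₀, hv₀]; linear_combination -w₁ * hdet
    have e2 : w₂ = -h₃ * u₀ + h₁ * v₀ := by rw [hu₀, hv₀]; linear_combination -w₂ * hdet
    rw [h.1, h.2] at e1 e2
    simp at e1 e2
    exact hw.elim (fun h' => h' e1) (fun h' => h' e2)
  have hk0 : (k : Mat) *ᵥ T.vec (u₀ • y) (v₀ • y) = μ • T.vec (u₀ • y) (v₀ • y) := by
    conv_lhs => rw [← hgw, hkg, he1, he2]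
    rw [show T.vec ((μ * (a * u₀ + c * v₀)) • y') ((μ * (b * u₀ + d * v₀)) • y') =
      μ • T.vec ((a * u₀ + c * v₀) • y') ((b * u₀ + d * v₀) • y') by
        rw [T.vec_smul, smul_smul, smul_smul], ← hR1, mulVec_smul, hRR]
  obtain ⟨c₀, d₀, hcd⟩ := exists_complement huv
  set zt := z + t • y with hzt
  set zm := z + (t * μ) • y with hzm
  have hztn : T.B zt zt ≠ 0 := by
    simp [hzt, hyz, hzy]
    convert ht1 using 1; ring
  have hzmn : T.B zm zm ≠ 0 := by
    simp [hzm, hyz, hzy]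
    rcases hμ with rfl | rfl
    · convert ht1 using 1; ring
    · convert ht2 using 1; ring
  have hkt : ∀ u v : F, (k : Mat) *ᵥ T.vec (u • zt) (v • zt) =
      T.vec (u • z) (v • z) + t • ((k : Mat) *ᵥ T.vec (u • y) (v • y)) := fun u v => by
    rw [← hkz u v, ← mulVec_smul, ← mulVec_add, T.vec_smul, T.vec_add, hzt]
    congr 2 <;> module
  have hp : (k : Mat) *ᵥ T.vec (u₀ • zt) (v₀ • zt) = T.vec (u₀ • zm) (v₀ • zm) := by
    rw [hkt, hk0, T.vec_smul, T.vec_smul, T.vec_add, hzm]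
    congr 1 <;> module
  have h := ((inv_pure hM hztn).change (a := u₀) (b := v₀) (c := c₀) (d := d₀)
    (by rw [hcd]; exact one_ne_zero)).map hM.le hkM
  rw [← vec_pair, ← vec_pair, hp] at h
  refine pureTv_of_pure_mem hM h2 hq hzmn huv h ?_
  rintro ⟨w, α, β, γ, ε, h1, h3⟩
  obtain ⟨e1, e1'⟩ := T.vec_inj h1
  have hzm0 : zm ≠ 0 := fun h0 => hzmn (by simp [h0])
  obtain ⟨κ, hκ⟩ : ∃ κ : F, κ • zm = w := by
    rcases huv with hu | hv
    · have : α ≠ 0 := by
        rintro rfl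
        rw [zero_smul] at e1
        exact hzm0 ((smul_eq_zero.mp e1).resolve_left hu)
      exact ⟨α⁻¹ * u₀, by rw [mul_smul, e1, inv_smul_smul₀ this]⟩
    · have : β ≠ 0 := by
        rintro rfl
        rw [zero_smul] at e1'
        exact hzm0 ((smul_eq_zero.mp e1').resolve_left hv)
      exact ⟨β⁻¹ * v₀, by rw [mul_smul, e1', inv_smul_smul₀ this]⟩
  apply hne
  -- all vectors of the image are pure
  have hscal : ∀ u v : F, (k : Mat) *ᵥ T.vec (u • y) (v • y) = μ • T.vec (u • y) (v • y) := by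
    intro u v
    obtain ⟨u', v', e⟩ := hky u v
    obtain ⟨γ₁, ε₁, e3⟩ : ∃ γ₁ ε₁ : F, (k : Mat) *ᵥ T.vec (u • zt) (v • zt) =
        T.vec (γ₁ • zm) (ε₁ • zm) := by
      refine ⟨(u * d₀ - v * c₀) * u₀ + (v * u₀ - u * v₀) * (γ * κ),
        (u * d₀ - v * c₀) * v₀ + (v * u₀ - u * v₀) * (ε * κ), ?_⟩
      rw [show T.vec (u • zt) (v • zt) = (u * d₀ - v * c₀) • T.vec (u₀ • zt) (v₀ • zt) +
          (v * u₀ - u * v₀) • T.vec (c₀ • zt) (d₀ • zt) by
        rw [T.vec_smul, T.vec_smul, T.vec_add]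
        congr 1
        · match_scalars <;> first | linear_combination -u * hcd | linear_combination -(u * t) * hcd
        · match_scalars <;> first | linear_combination -v * hcd | linear_combination -(v * t) * hcd,
        mulVec_add, mulVec_smul, mulVec_smul, hp, h3, ← hκ, T.vec_smul, T.vec_smul, T.vec_add]
      congr 1 <;> module
    rw [hkt, e, T.vec_smul, T.vec_add] at e3
    obtain ⟨f1, f2⟩ := T.vec_inj e3
    have g1 := congrArg (fun x => T.B x z) f1
    have g2 := congrArg (fun x => T.B x y) f1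
    have g3 := congrArg (fun x => T.B x z) f2
    have g4 := congrArg (fun x => T.B x y) f2
    simp [hzm, hyz, hzy, hz] at g1 g2 g3 g4
    subst g1 g3
    have i1 : (u' - μ * u) * (t * T.B y y) = 0 := by linear_combination g2
    have i2 : (v' - μ * v) * (t * T.B y y) = 0 := by linear_combination g4
    rw [e, T.vec_smul, smul_smul, smul_smul,
      sub_eq_zero.mp ((mul_eq_zero.mp i1).resolve_right (mul_ne_zero ht hy)),
      sub_eq_zero.mp ((mul_eq_zero.mp i2).resolve_right (mul_ne_zero ht hy))]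
  intro u v
  have h := hscal (h₁ * u + h₂ * v) (h₃ * u + h₄ * v)
  rw [← hgw, hkg, hgw] at h
  have h' := congrArg (fun x => (R : Mat) *ᵥ x) h
  simp only [hRR, mulVec_smul, hR1, T.vec_smul, smul_smul] at h'
  obtain ⟨f1, f2⟩ := T.vec_inj h'
  have g1 := smul_left_injective F hy'0 f1
  have g2 := smul_left_injective F hy'0 f2
  exact ⟨by linear_combination g1, by linear_combination g2⟩

/-- A non-pure plane orthogonal to a pure anisotropic plane. -/
theorem pureTv_of_perp (hM : T.Over M) (h2 : (2 : F) ≠ 0) (hq : 5 ≤ Fintype.card F) {p q : V}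
    (hinv : InvPlane M p q) (hnp : ¬ T.IsPure p q) {z : W} (hz : T.B z z ≠ 0)
    (hperp : PerpPlane T z p q) : T.PureTv M := by
  obtain ⟨y, hyz, hyy⟩ := T.exists_value hz h2 (-(T.B z z))
  have hy : T.B y y ≠ 0 := by rw [hyy]; exact neg_ne_zero.mpr hz
  obtain ⟨y', hy', hy'z, hy'y, hspan⟩ := T.exists_orth hz hy hyz
  have hzy : T.B z y = 0 := by rw [T.symm, hyz]
  have hzy' : T.B z y' = 0 := by rw [T.symm, hy'z]
  have hyy' : T.B y y' = 0 := by rw [T.symm, hy'y]
  obtain ⟨hpq, R, hR, hRx⟩ := hinv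
  have hfix : ∀ u v : F, (R : Mat) *ᵥ T.vec (u • z) (v • z) = T.vec (u • z) (v • z) := fun u v =>
    hRx.fix (hperp u v).1 (hperp u v).2
  have hf := mem_spGL_iff.mp (hM.le hR)
  have halt : ∀ x x', ω ((R : Mat) *ᵥ x) x' + ω ((R : Mat) *ᵥ x') x = 0 := by
    intro x x'
    rw [hRx x, hRx x']
    simp only [w_sub_left, w_smul_left]
    rw [Forms.sympForm_swap x x', Forms.sympForm_swap x p, Forms.sympForm_swap x q,
      Forms.sympForm_swap x' p, Forms.sympForm_swap x' q]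
    ring
  have hslf : ∀ x, ω ((R : Mat) *ᵥ x) x = 0 := fun x => by
    rw [hRx x]
    simp only [w_sub_left, w_smul_left, w_self]
    rw [Forms.sympForm_swap x p, Forms.sympForm_swap x q]
    ring
  have dec : ∀ x, T.B x z = 0 → ∃ u v : F, x = u • y + v • y' := by
    intro x hx
    obtain ⟨a, b, c, rfl⟩ := hspan x
    simp [hy'z, hyz, hz] at hx
    exact ⟨b, c, by rw [hx, zero_smul, zero_add]⟩
  have hcomp : ∀ X Y, T.B X z = 0 → T.B Y z = 0 → ∀ X' Y', (R : Mat) *ᵥ T.vec X Y = T.vec X' Y' →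
      T.B X' z = 0 ∧ T.B Y' z = 0 := by
    intro X Y hX hY X' Y' e
    have e1 := hf (T.vec X Y) (T.vec ((1 : F) • z) ((0 : F) • z))
    have e2 := hf (T.vec X Y) (T.vec ((0 : F) • z) ((1 : F) • z))
    rw [e, hfix] at e1 e2
    rw [T.form_vec, T.form_vec] at e1 e2
    simp [T.symm z Y, hX, hY] at e1 e2
    exact ⟨e2, by rw [T.symm]; exact e1⟩
  obtain ⟨X₁, Y₁, e1⟩ := T.vec_surj ((R : Mat) *ᵥ T.vec y 0)
  obtain ⟨X₂, Y₂, e2⟩ := T.vec_surj ((R : Mat) *ᵥ T.vec 0 y)
  obtain ⟨hX1, hY1⟩ := hcomp y 0 hyz (by simp) _ _ e1.symm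
  obtain ⟨hX2, hY2⟩ := hcomp 0 y (by simp) hyz _ _ e2.symm
  obtain ⟨κ, a, rfl⟩ := dec X₁ hX1
  obtain ⟨κ₁, b, rfl⟩ := dec Y₁ hY1
  obtain ⟨κ₂, c, rfl⟩ := dec X₂ hX2
  obtain ⟨κ₃, d, rfl⟩ := dec Y₂ hY2
  have hs1 := hslf (T.vec y 0)
  have hs2 := hslf (T.vec 0 y)
  have hs3 := halt (T.vec y 0) (T.vec 0 y)
  rw [← e1] at hs1 hs3
  rw [← e2] at hs2 hs3
  rw [T.form_vec] at hs1 hs2
  rw [T.form_vec, T.form_vec] at hs3
  simp [hy'y, hyy', hy] at hs1 hs2 hs3
  subst hs1 hs2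
  obtain rfl : κ₃ = κ := by
    have : (κ - κ₃) * T.B y y = 0 := by linear_combination hs3
    exact (sub_eq_zero.mp ((mul_eq_zero.mp this).resolve_right hy)).symm
  simp only [zero_smul, zero_add] at e1 e2
  obtain ⟨D, hD⟩ : ∃ D, D = a * d - b * c := ⟨_, rfl⟩
  have hval : T.B y y = κ₃ * κ₃ * T.B y y + D * T.B y' y' := by
    have h3 := hf (T.vec y 0) (T.vec 0 y)
    rw [← e1, ← e2, T.form_vec, T.form_vec] at h3
    simp [hy'y, hyy'] at h3
    rw [hD]
    linear_combination -h3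
  have hlin : ∀ u v : F, (R : Mat) *ᵥ T.vec (u • y) (v • y) =
      T.vec ((u * κ₃) • y + (a * u + c * v) • y') ((v * κ₃) • y + (b * u + d * v) • y') := fun u v => by
    rw [vec_pair, mulVec_add, mulVec_smul, mulVec_smul, ← e1, ← e2, T.vec_smul, T.vec_smul, T.vec_add]
    congr 1 <;> module
  have hinv : InvPlane M p q := ⟨hpq, R, hR, hRx⟩
  by_cases hD0 : D = 0
  · obtain ⟨u, v, huv, hu1, hu2⟩ : ∃ u v : F, (u ≠ 0 ∨ v ≠ 0) ∧ a * u + c * v = 0 ∧ b * u + d * v = 0 := by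
      rw [hD] at hD0
      by_cases ha : a = 0
      swap
      · exact ⟨-c, a, Or.inr ha, by ring, by linear_combination hD0⟩
      by_cases hb : b = 0
      swap
      · exact ⟨-d, b, Or.inr hb, by linear_combination -hD0, by ring⟩
      exact ⟨1, 0, Or.inl one_ne_zero, by simp [ha], by simp [hb]⟩
    have hRu : (R : Mat) *ᵥ T.vec (u • y) (v • y) = κ₃ • T.vec (u • y) (v • y) := by
      rw [hlin, hu1, hu2, T.vec_smul]
      congr 1 <;> module
    have hκ : κ₃ * κ₃ = 1 := by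
      rw [hD0, zero_mul, add_zero] at hval
      exact mul_right_cancel₀ hy (by rw [one_mul]; exact hval.symm)
    rcases mul_self_eq_one_iff.mp hκ with rfl | rfl
    · rw [one_smul] at hRu
      obtain ⟨hp', hq'⟩ := hRx.orth h2 hpq
        (by rw [hRu, sub_self, sesq_sympForm.zero_left]) (by rw [hRu, sub_self, sesq_sympForm.zero_left])
      rcases pureTv_or_perp hM h2 hq hinv hy huv hp' hq' with h | h
      · exact h
      · exact absurd (pure_of_two_perp hz hy hyz hperp h) hnp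
    · set x := T.vec (u • y) (v • y) with hx
      have hx0 : x ≠ 0 := by
        intro h0
        obtain ⟨g1, g2⟩ := T.vec_eq_zero h0
        have hy0 : y ≠ 0 := fun h => hy (by simp [h])
        exact huv.elim (fun h => h ((smul_eq_zero.mp g1).resolve_right hy0))
          (fun h => h ((smul_eq_zero.mp g2).resolve_right hy0))
      have h' := hRx x
      rw [hRu] at h'
      have ex : x = (ω x q / ω p q) • p + (-(ω x p) / ω p q) • q := by
        have h'' : (2 : F) • x = (2 / ω p q) • (ω x q • p - ω x p • q) := by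
          linear_combination (norm := module) -h'
        calc x = (2 : F)⁻¹ • ((2 : F) • x) := (inv_smul_smul₀ h2 x).symm
          _ = _ := by
            rw [h'']
            match_scalars <;> field_simp
      have hαβ : ω x q / ω p q ≠ 0 ∨ -(ω x p) / ω p q ≠ 0 := by
        by_contra h
        push Not at h
        rw [h.1, h.2] at ex
        exact hx0 (by simpa using ex)
      obtain ⟨γ, ε, hge⟩ := exists_complement hαβ
      have hd : ω x q / ω p q * ε - -(ω x p) / ω p q * γ ≠ 0 := by rw [hge]; exact one_ne_zero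
      have hi := hinv.change hd
      have hn := not_pure_change hnp hd
      rw [← ex] at hi hn
      exact pureTv_of_pure_mem hM h2 hq hy huv hi hn
  have hk1 : κ₃ * κ₃ ≠ 1 := by
    intro h
    rw [h, one_mul] at hval
    exact mul_ne_zero hD0 hy' (by linear_combination -hval)
  by_cases hns : b = 0 ∧ c = 0 ∧ a = d
  · obtain ⟨rfl, rfl, rfl⟩ := hns
    have ha : a ≠ 0 := by
      rintro rfl
      exact hD0 (by rw [hD]; ring)
    refine pureTv_of_scalar hM h2 hq hpq hnp hR hRx hz hy hyz hy'z hy'y hperp (κ := κ₃)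
      (fun h => hk1 (by rw [h]; ring)) ha ?_ ?_
    · rw [← e1, zero_smul]
    · rw [← e2, zero_smul]
  by_cases hκ : κ₃ = 0
  swap
  · -- a plane orthogonal to an isotropic one
    set zt := z + κ₃⁻¹ • y with hzt
    have hztn : T.B zt zt ≠ 0 := by
      simp [hzt, hyz, hzy, hyy]
      intro h
      field_simp at h
      exact hk1 (mul_left_cancel₀ hz (by linear_combination h))
    have h := (inv_pure hM hztn).map hM.le hR
    have i1 : (R : Mat) *ᵥ T.vec zt 0 = T.vec ((z + y) + (κ₃⁻¹ * a) • y') ((κ₃⁻¹ * b) • y') := by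
      rw [show T.vec zt 0 = T.vec ((1 : F) • z) ((0 : F) • z) + T.vec (κ₃⁻¹ • y) ((0 : F) • y) by
        rw [T.vec_add, hzt]; simp, mulVec_add, hfix, hlin, T.vec_add]
      congr 1 <;> match_scalars <;> field_simp <;> ring
    have i2 : (R : Mat) *ᵥ T.vec 0 zt = T.vec ((κ₃⁻¹ * c) • y') ((z + y) + (κ₃⁻¹ * d) • y') := by
      rw [show T.vec 0 zt = T.vec ((0 : F) • z) ((1 : F) • z) + T.vec ((0 : F) • y) (κ₃⁻¹ • y) by
        rw [T.vec_add, hzt]; simp, mulVec_add, hfix, hlin, T.vec_add]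
      congr 1 <;> match_scalars <;> field_simp <;> ring
    rw [i1, i2] at h
    have hn : ¬ T.IsPure (T.vec ((z + y) + (κ₃⁻¹ * a) • y') ((κ₃⁻¹ * b) • y'))
        (T.vec ((κ₃⁻¹ * c) • y') ((z + y) + (κ₃⁻¹ * d) • y')) := by
      refine not_pure_pair (z := z) (by simp [hyz, hz]) hy'z (fun h0 => hy' (by simp [h0])) ?_
      rintro ⟨g1, g2, g3⟩
      exact hns ⟨(mul_eq_zero.mp g1).resolve_left (inv_ne_zero hκ),
        (mul_eq_zero.mp g2).resolve_left (inv_ne_zero hκ), mul_left_cancel₀ (inv_ne_zero hκ) g3⟩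
    refine pureTv_of_iso_plane hM h2 hq h hn (c := z + y) ?_ (by simp [hyz, hzy, hyy]) ?_
    · intro h0
      have := congrArg (fun x => T.B x z) h0
      simp [hyz, hz] at this
    · refine perpPlane_of _ ⟨?_, ?_, ?_, ?_⟩ <;>
        (rw [T.form_vec]; simp [hyz, hzy, hy'z, hzy', hy'y, hyy', hyy])
  -- the antidiagonal case
  subst hκ
  have hR1 : ∀ u v : F, (R : Mat) *ᵥ T.vec (u • y) (v • y) =
      T.vec ((a * u + c * v) • y') ((b * u + d * v) • y') := fun u v => by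
    rw [hlin]; simp
  have hDy : D * T.B y' y' = -(T.B z z) := by rw [← hyy]; linear_combination -hval
  have hRR := hRx.invol hpq
  classical
  by_cases hsq : IsSquare D
  swap
  · -- interchange `y` and `y'`
    have hR2 : ∀ u v : F, (R : Mat) *ᵥ T.vec (u • y') (v • y') =
        T.vec ((d / D * u + -c / D * v) • y) ((-b / D * u + a / D * v) • y) := by
      intro u v
      have e : T.vec (u • y') (v • y') = (R : Mat) *ᵥ
          T.vec ((d / D * u + -c / D * v) • y) ((-b / D * u + a / D * v) • y) := by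
        rw [hR1]
        congr 2 <;> field_simp <;> rw [hD] <;> ring
      rw [e, hRR]
    have hD' : d / D * (a / D) - -b / D * (-c / D) = D⁻¹ := by
      field_simp; rw [hD]; ring
    obtain ⟨s, hs, hsD⟩ := exists_sq_ne hq D
    refine pureTv_of_antidiag hM h2 hq hR hRR hz hy' hy hy'z hfix hR2 ?_ ?_ hs ?_ one_ne_zero ?_ ?_
    · rw [hD']; exact inv_ne_zero hD0
    · rintro ⟨g1, g2, g3⟩
      rw [div_eq_zero_iff, neg_eq_zero] at g1 g2
      exact hns ⟨g1.resolve_right hD0, g2.resolve_right hD0, (div_left_inj' hD0).mp g3.symm⟩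
    · rw [hD']
      intro h
      field_simp at h
      exact hsD (by linear_combination h)
    · intro h
      refine hsq ⟨1, ?_⟩
      have : (D - 1 * 1) * T.B y' y' = 0 := by linear_combination hDy - h
      exact sub_eq_zero.mp ((mul_eq_zero.mp this).resolve_right hy')
    · rw [hD']
      intro h
      refine hsq ⟨D⁻¹ * (s * s), ?_⟩
      have : (D - D⁻¹ * (s * s) * (D⁻¹ * (s * s))) * T.B y' y' = 0 := by linear_combination hDy - h
      exact sub_eq_zero.mp ((mul_eq_zero.mp this).resolve_right hy')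
  obtain ⟨s, t, hs, hl, ht, ht1, ht2⟩ : ∃ s t : F, s ≠ 0 ∧ D * (s * s) ≠ 1 ∧ t ≠ 0 ∧ t * t ≠ 1 ∧
      t * t * ((D * (s * s)) * (D * (s * s))) ≠ 1 := by
    by_cases h6 : 6 ≤ Fintype.card F
    · obtain ⟨s, hs, hsD⟩ := exists_sq_ne hq D⁻¹
      obtain ⟨t, ht⟩ := exists_avoid_five h6 {0, 1, -1, (D * (s * s))⁻¹, -(D * (s * s))⁻¹}
        Finset.card_le_five
      simp only [Finset.mem_insert, Finset.mem_singleton, not_or] at ht
      refine ⟨s, t, hs, fun h => hsD (eq_inv_of_mul_eq_one_right h), ht.1, fun h => ?_, fun h => ?_⟩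
      · exact (mul_self_eq_one_iff.mp h).elim ht.2.1 ht.2.2.1
      · have h' : t * (D * (s * s)) * (t * (D * (s * s))) = 1 := by linear_combination h
        rcases mul_self_eq_one_iff.mp h' with g | g
        · exact ht.2.2.2.1 (eq_inv_of_mul_eq_one_left g)
        · refine ht.2.2.2.2 ?_
          rw [← inv_neg]
          exact eq_inv_of_mul_eq_one_left (by linear_combination -g)
    · obtain ⟨i, hi⟩ := FiniteField.isSquare_neg_one_iff.mpr (show Fintype.card F % 4 ≠ 3 by omega)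
      obtain ⟨e, he⟩ := hsq
      obtain ⟨t, ht⟩ := two_lt_card hq {0, 1, -1} (le_trans Finset.card_le_three (by norm_num))
      simp only [Finset.mem_insert, Finset.mem_singleton, not_or] at ht
      have he0 : e ≠ 0 := by rintro rfl; exact hD0 (by rw [he, zero_mul])
      have hi0 : i ≠ 0 := by rintro rfl; simp at hi
      have hl : D * (i / e * (i / e)) = -1 := by rw [he]; field_simp; linear_combination -hi
      have ht1 : t * t ≠ 1 := fun h => (mul_self_eq_one_iff.mp h).elim ht.2.1 ht.2.2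
      exact ⟨i / e, t, div_ne_zero hi0 he0, by rw [hl]; intro h; exact h2 (by linear_combination -h),
        ht.1, ht1, by rw [hl]; simpa using ht1⟩
  refine pureTv_of_antidiag hM h2 hq hR hRR hz hy hy' hyz hfix hR1 (hD ▸ hD0) hns hs (hD ▸ hl) ht ?_ ?_
  · rw [hyy]
    intro h
    exact ht1 (mul_left_cancel₀ hz (by linear_combination -h))
  · rw [hyy, ← hD]
    intro h
    exact ht2 (mul_left_cancel₀ hz (by linear_combination -h))

end TFrame

end CfsgLib.SpSix
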