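import Cfsg.Agent.SpSix.TensorCentre

/-!
# Overgroups of `Sp_2 ⊗ O_3`: planes whose symplectic reflection lies in the overgroup

If such a plane is not of the form `F² ⊗ w` and contains a pure anisotropic vector, the overgroup has a
transvection with pure centre; if it is orthogonal to such a vector, it is orthogonal to a pure plane.
-/

set_option autoImplicit false
set_option linter.unusedSectionVars false

namespace CfsgLib.SpSix

open Matrix Cfsg.Geo CfsgLib.MaxSub
open scoped MatrixGroups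

variable {F : Type*} [Field F] [Fintype F]

local notation "W" => (Fin 3 → F)
local notation "V" => (Fin 3 ⊕ Fin 3 → F)
local notation "ω" => Cfsg.sympForm 3 F
local notation "Mat" => Matrix (Fin 3 ⊕ Fin 3) (Fin 3 ⊕ Fin 3) F

/-- The symplectic reflection in the plane of a pair. -/
def IsRefl (R : GL (Fin 3 ⊕ Fin 3) F) (p q : Fin 3 ⊕ Fin 3 → F) : Prop :=
  ∀ x, (R : Matrix (Fin 3 ⊕ Fin 3) (Fin 3 ⊕ Fin 3) F) *ᵥ x =
    x - (2 / Cfsg.sympForm 3 F p q) •
      (Cfsg.sympForm 3 F x q • p - Cfsg.sympForm 3 F x p • q)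

/-- A non-degenerate plane with its reflection in `M`. -/
def InvPlane (M : Subgroup (GL (Fin 3 ⊕ Fin 3) F)) (p q : Fin 3 ⊕ Fin 3 → F) : Prop :=
  Cfsg.sympForm 3 F p q ≠ 0 ∧ ∃ R ∈ M, IsRefl R p q

variable {M : Subgroup (GL (Fin 3 ⊕ Fin 3) F)}

theorem IsRefl.fix {R : GL (Fin 3 ⊕ Fin 3) F} {p q x : V} (h : IsRefl R p q) (h1 : ω x p = 0)
    (h2 : ω x q = 0) : (R : Mat) *ᵥ x = x := by
  rw [h, h1, h2]; simp

theorem IsRefl.orth {R : GL (Fin 3 ⊕ Fin 3) F} {p q x : V} (h2 : (2 : F) ≠ 0) (hpq : ω p q ≠ 0)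
    (h : IsRefl R p q) (h1 : ω ((R : Mat) *ᵥ x - x) p = 0) (h1' : ω ((R : Mat) *ᵥ x - x) q = 0) :
    ω x p = 0 ∧ ω x q = 0 := by
  rw [h, sub_sub_cancel_left, sesq_sympForm.neg_left, w_smul_left, w_sub_left, w_smul_left, w_smul_left,
    w_self] at h1
  rw [h, sub_sub_cancel_left, sesq_sympForm.neg_left, w_smul_left, w_sub_left, w_smul_left, w_smul_left,
    w_self] at h1'
  rw [Forms.sympForm_swap p q] at h1
  field_simp at h1 h1'
  constructor
  · have h : (2 * ω p q) * ω x p = 0 := by linear_combination -h1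
    exact (mul_eq_zero.mp h).resolve_left (mul_ne_zero h2 hpq)
  · have h : (2 * ω p q) * ω x q = 0 := by linear_combination -h1'
    exact (mul_eq_zero.mp h).resolve_left (mul_ne_zero h2 hpq)

theorem IsRefl.left {R : GL (Fin 3 ⊕ Fin 3) F} {p q : V} (hpq : ω p q ≠ 0) (h : IsRefl R p q) :
    (R : Mat) *ᵥ p = -p ∧ (R : Mat) *ᵥ q = -q := by
  constructor
  · rw [h, w_self, zero_smul, sub_zero, smul_smul, div_mul_cancel₀ _ hpq, two_smul]; abel
  · rw [h, w_self, zero_smul, zero_sub, Forms.sympForm_swap p q, neg_smul, neg_neg, smul_smul,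
      div_mul_cancel₀ _ hpq, two_smul]; abel

theorem IsRefl.invol {R : GL (Fin 3 ⊕ Fin 3) F} {p q : V} (hpq : ω p q ≠ 0) (h : IsRefl R p q) (x : V) :
    (R : Mat) *ᵥ ((R : Mat) *ᵥ x) = x := by
  conv_lhs => rw [h x, mulVec_sub, mulVec_smul, mulVec_sub, mulVec_smul, mulVec_smul, (h.left hpq).1,
    (h.left hpq).2, h x]
  module

theorem InvPlane.map (hle : M ≤ Cfsg.spGL 3 F) {p q : V} (h : InvPlane M p q)
    {g : GL (Fin 3 ⊕ Fin 3) F} (hg : g ∈ M) : InvPlane M ((g : Mat) *ᵥ p) ((g : Mat) *ᵥ q) := by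
  obtain ⟨hpq, R, hR, hRx⟩ := h
  have hgi := mem_spGL_iff.mp (hle hg)
  refine ⟨by rwa [hgi], g * R * g⁻¹, M.mul_mem (M.mul_mem hg hR) (M.inv_mem hg), fun x => ?_⟩
  have e : ∀ w, ω (((g⁻¹ : GL (Fin 3 ⊕ Fin 3) F) : Mat) *ᵥ x) w = ω x ((g : Mat) *ᵥ w) := fun w => by
    rw [← hgi, mulVec_mulVec, Units.mul_inv, one_mulVec]
  rw [Units.val_mul, Units.val_mul, ← mulVec_mulVec, ← mulVec_mulVec, hRx, mulVec_sub, mulVec_smul,
    mulVec_sub, mulVec_smul, mulVec_smul, mulVec_mulVec, Units.mul_inv, one_mulVec, e, e, hgi]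

theorem InvPlane.change {p q : V} (h : InvPlane M p q) {a b c d : F} (hd : a * d - b * c ≠ 0) :
    InvPlane M (a • p + b • q) (c • p + d • q) := by
  obtain ⟨hpq, R, hR, hRx⟩ := h
  have e : ω (a • p + b • q) (c • p + d • q) = (a * d - b * c) * ω p q := by
    simp only [w_add_left, w_add_right, w_smul_left, w_smul_right, w_self, Forms.sympForm_swap p q]
    ring
  refine ⟨by rw [e]; exact mul_ne_zero hd hpq, R, hR, fun x => ?_⟩
  rw [hRx, e]
  simp only [w_add_right, w_smul_right]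
  match_scalars <;> field_simp <;> ring

theorem InvPlane.swap {p q : V} (h : InvPlane M p q) : InvPlane M q p := by
  simpa using h.change (a := 0) (b := 1) (c := 1) (d := 0) (by simp)

namespace TFrame

variable (T : TFrame F)

/-- The pair lies in some `F² ⊗ w`. -/
def IsPure (p q : Fin 3 ⊕ Fin 3 → F) : Prop :=
  ∃ (w : Fin 3 → F) (a b c d : F), p = T.vec (a • w) (b • w) ∧ q = T.vec (c • w) (d • w)

variable {T}

theorem IsPure.of_combination {p q p' q' : V} (h : T.IsPure p' q') {a b c d : F}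
    (hp : p = a • p' + b • q') (hq : q = c • p' + d • q') : T.IsPure p q := by
  obtain ⟨w, x, y, x', y', rfl, rfl⟩ := h
  refine ⟨w, a * x + b * x', a * y + b * y', c * x + d * x', c * y + d * y', ?_, ?_⟩
  · rw [hp, T.vec_smul, T.vec_smul, T.vec_add]; congr 1 <;> module
  · rw [hq, T.vec_smul, T.vec_smul, T.vec_add]; congr 1 <;> module

theorem not_pure_change {p q : V} (h : ¬ T.IsPure p q) {a b c d : F} (hd : a * d - b * c ≠ 0) :
    ¬ T.IsPure (a • p + b • q) (c • p + d • q) := by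
  intro h'
  obtain ⟨D, hD⟩ : ∃ D, D = a * d - b * c := ⟨_, rfl⟩
  have hD0 : D ≠ 0 := hD ▸ hd
  refine h (h'.of_combination (a := d / D) (b := -b / D) (c := -c / D) (d := a / D) ?_ ?_)
  · match_scalars <;> field_simp <;> (try rw [hD]) <;> ring
  · match_scalars <;> field_simp <;> (try rw [hD]) <;> ring

theorem w_vec_left (a b x : W) : ω (T.vec a b) (T.vec x 0) = -T.B x b := by
  rw [T.form_vec]; simp

theorem w_vec_right (a b x : W) : ω (T.vec a b) (T.vec 0 x) = T.B a x := by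
  rw [T.form_vec]; simp

theorem vec_pair (a b : F) (w : W) : T.vec (a • w) (b • w) = a • T.vec w 0 + b • T.vec 0 w := by
  rw [T.vec_smul, T.vec_smul, T.vec_add]; simp

theorem inv_pure (hM : T.Over M) {z : W} (hz : T.B z z ≠ 0) : InvPlane M (T.vec z 0) (T.vec 0 z) := by
  have e : ω (T.vec z 0) (T.vec 0 z) = T.B z z := w_vec_right _ _ _
  obtain ⟨g, hg, hgx⟩ := hM.iso (T.refl_iso hz)
  refine ⟨by rwa [e], g, hg, fun x => ?_⟩
  obtain ⟨a, b, rfl⟩ := T.vec_surj x
  rw [hgx, e, w_vec_left, w_vec_right, T.refl_apply hz, T.refl_apply hz, T.symm z b, T.vec_smul,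
    T.vec_smul, T.vec_sub, T.vec_smul, T.vec_sub]
  congr 1 <;> module

theorem exists_complement {a b : F} (hab : a ≠ 0 ∨ b ≠ 0) : ∃ c d : F, a * d - b * c = 1 := by
  rcases hab with ha | hb
  · exact ⟨0, a⁻¹, by simp [ha]⟩
  · exact ⟨-b⁻¹, 0, by simp [hb]⟩

/-- A plane with a pure anisotropic member. -/
theorem pureTv_of_pure_mem (hM : T.Over M) (h2 : (2 : F) ≠ 0) (hq : 5 ≤ Fintype.card F) {z : W}
    (hz : T.B z z ≠ 0) {a b : F} (hab : a ≠ 0 ∨ b ≠ 0) {q : V}
    (hinv : InvPlane M (T.vec (a • z) (b • z)) q) (hnp : ¬ T.IsPure (T.vec (a • z) (b • z)) q) :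
    T.PureTv M := by
  obtain ⟨c, d, hcd⟩ := exists_complement hab
  set v := T.vec (a • z) (b • z) with hv
  set w := T.vec (c • z) (d • z) with hw
  set η := T.B z z with hη
  have hvw : ω v w = η := by
    rw [hv, hw, T.form_vec]
    simp only [map_smul, LinearMap.smul_apply, smul_eq_mul, ← hη]
    linear_combination η * hcd
  have hvq := hinv.1
  set κ := ω v q / η with hκ
  have hκ0 : κ ≠ 0 := div_ne_zero hvq hz
  set m := ω q w / (κ * η) with hm
  set r := κ⁻¹ • q - m • v - w with hr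
  have hvr : ω v r = 0 := by
    rw [hr, w_sub_right, w_sub_right, w_smul_right, w_smul_right, w_self, hvw, hκ]
    field_simp
    ring
  have hrw : ω r w = 0 := by
    rw [hr, w_sub_left, w_sub_left, w_smul_left, w_smul_left, w_self, hvw, hm]
    field_simp
    ring
  have hr0 : r ≠ 0 := by
    intro h
    apply hnp
    refine ⟨z, a, b, κ * (m * a + c), κ * (m * b + d), hv, ?_⟩
    have e : q = κ • (m • v + w) := by
      have h' : κ⁻¹ • q = m • v + w := by
        rw [← sub_eq_zero, ← h, hr]; abel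
      rw [← h', smul_inv_smul₀ hκ0]
    rw [e, hv, hw, T.vec_smul, T.vec_add, T.vec_smul]
    congr 1 <;> module
  -- the two reflections
  obtain ⟨-, R, hR, hRx⟩ := hinv.change (a := 1) (b := 0) (c := -m) (d := κ⁻¹) (by simp [hκ0])
  have ep : (1 : F) • v + (0 : F) • q = v := by simp
  have eq' : -m • v + κ⁻¹ • q = w + r := by rw [hr]; module
  rw [ep, eq'] at hRx
  obtain ⟨-, S, hS, hSx⟩ := (inv_pure hM hz).change (a := a) (b := b) (c := c) (d := d)
    (by rw [hcd]; exact one_ne_zero)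
  rw [← vec_pair, ← vec_pair, ← hv, ← hw] at hSx
  have hwv : ω w v = -η := by rw [Forms.sympForm_swap v w, hvw]
  have hrv : ω r v = 0 := w_orth hvr
  have hwr : ω w r = 0 := w_orth hrw
  have hj : IsS (R * S) v ((-2 / η) • r) := fun x => by
    rw [Units.val_mul, ← mulVec_mulVec, hRx, hSx, w_add_right v, hvw, hvr, add_zero]
    simp only [w_sub_left, w_smul_left, w_add_right, w_smul_right, w_self, hvw, hwv, hvr, hwr]
    match_scalars <;> field_simp <;> ring
  -- move the centre to the first slot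
  obtain ⟨g, hg, hgx⟩ := hM.sl (a := d) (b := -c) (c := -b) (d := a) (by linear_combination hcd)
  have hgv : (g : Mat) *ᵥ v = T.vec z 0 := by
    rw [hv, hgx, smul_smul, smul_smul, smul_smul, smul_smul, ← add_smul, ← add_smul]
    rw [show d * a + -c * b = 1 by linear_combination hcd, show -b * a + a * b = (0 : F) by ring,
      one_smul, zero_smul]
  have hgw : (g : Mat) *ᵥ w = T.vec 0 z := by
    rw [hw, hgx, smul_smul, smul_smul, smul_smul, smul_smul, ← add_smul, ← add_smul]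
    rw [show d * c + -c * d = (0 : F) by ring, show -b * c + a * d = 1 by linear_combination hcd,
      one_smul, zero_smul]
  have h' := hj.conj (hM.le hg) (g := g)
  rw [hgv] at h'
  have hgi := mem_spGL_iff.mp (hM.le hg)
  refine pureTv_of_short hM h2 hq hz (M.mul_mem (M.mul_mem hg (M.mul_mem hR hS)) (M.inv_mem hg)) ?_ ?_ ?_ h'
  · intro h0
    have h1 : (-2 / η) • r = 0 := mulVec_injective_iff_isUnit.mpr g.isUnit (by
      show (g : Mat) *ᵥ _ = (g : Mat) *ᵥ 0
      rw [h0, mulVec_zero])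
    rcases smul_eq_zero.mp h1 with h1 | h1
    · exact div_ne_zero (neg_ne_zero.mpr h2) hz h1
    · exact hr0 h1
  · rw [← hgv, hgi, w_smul_left, hrv, mul_zero]
  · rw [← hgw, hgi, w_smul_left, hrw, mul_zero]

/-- `F² ⊗ z` is orthogonal to both vectors. -/
def PerpPlane (T : TFrame F) (z : Fin 3 → F) (p q : Fin 3 ⊕ Fin 3 → F) : Prop :=
  ∀ a b : F, Cfsg.sympForm 3 F (T.vec (a • z) (b • z)) p = 0 ∧
    Cfsg.sympForm 3 F (T.vec (a • z) (b • z)) q = 0

theorem perpPlane_of (z : W) {p q : V} (h : ω (T.vec z 0) p = 0 ∧ ω (T.vec z 0) q = 0 ∧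
    ω (T.vec 0 z) p = 0 ∧ ω (T.vec 0 z) q = 0) : PerpPlane T z p q := fun a b => by
  obtain ⟨h1, h2, h3, h4⟩ := h
  constructor
  · rw [vec_pair, w_add_left, w_smul_left, w_smul_left, h1, h3]; ring
  · rw [vec_pair, w_add_left, w_smul_left, w_smul_left, h2, h4]; ring

/-- A pure anisotropic vector orthogonal to the plane. -/
theorem pureTv_or_perp (hM : T.Over M) (h2 : (2 : F) ≠ 0) (hq : 5 ≤ Fintype.card F) {p q : V}
    (hinv : InvPlane M p q) {z : W} (hz : T.B z z ≠ 0) {a b : F} (hab : a ≠ 0 ∨ b ≠ 0)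
    (hp : ω (T.vec (a • z) (b • z)) p = 0) (hq' : ω (T.vec (a • z) (b • z)) q = 0) :
    T.PureTv M ∨ PerpPlane T z p q := by
  obtain ⟨c, d, hcd⟩ := exists_complement hab
  obtain ⟨hpq, R, hR, hRx⟩ := hinv
  obtain ⟨y, hy, hyz⟩ := T.exists_perp_aniso hz h2
  obtain ⟨S, hS, hSx⟩ := hM.iso (T.refl_iso hy)
  have hSz : ∀ u t : F, (S : Mat) *ᵥ T.vec (u • z) (t • z) = T.vec (u • z) (t • z) := fun u t => by
    rw [hSx, map_smul, map_smul, T.refl_perp hy (by rw [T.symm]; exact hyz)]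
  set v := T.vec (a • z) (b • z) with hv
  set w := T.vec (c • z) (d • z) with hw
  have hvp := hRx.fix hp hq'
  have h := ((inv_pure hM hz).change (a := a) (b := b) (c := c) (d := d)
    (by rw [hcd]; exact one_ne_zero)).map hM.le (M.mul_mem hR hS)
  rw [← vec_pair, ← vec_pair, Units.val_mul, ← mulVec_mulVec, ← mulVec_mulVec, ← hv, ← hw, hSz, hSz,
    ← hv, ← hw, hvp] at h
  by_cases hpure : T.IsPure v ((R : Mat) *ᵥ w)
  swap
  · exact Or.inl (pureTv_of_pure_mem hM h2 hq hz hab h hpure)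
  right
  obtain ⟨z', a', b', c', d', e1, e2⟩ := hpure
  -- the image of `w` differs from it by a multiple of `v`
  obtain ⟨k, hk⟩ : ∃ k : F, k • z = z' := by
    obtain ⟨e3, e4⟩ := T.vec_inj (hv ▸ e1)
    rcases hab with ha | hb
    · have : a' ≠ 0 := by
        rintro rfl
        rw [zero_smul] at e3
        rcases smul_eq_zero.mp e3 with h' | h'
        · exact ha h'
        · exact hz (by simp [h'])
      exact ⟨a'⁻¹ * a, by rw [mul_smul, e3, inv_smul_smul₀ this]⟩
    · have : b' ≠ 0 := by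
        rintro rfl
        rw [zero_smul] at e4
        rcases smul_eq_zero.mp e4 with h' | h'
        · exact hb h'
        · exact hz (by simp [h'])
      exact ⟨b'⁻¹ * b, by rw [mul_smul, e4, inv_smul_smul₀ this]⟩
  have hvw : ω v w = T.B z z := by
    rw [hv, hw, T.form_vec]
    simp only [map_smul, LinearMap.smul_apply, smul_eq_mul]
    linear_combination T.B z z * hcd
  set α := d * (c' * k) - c * (d' * k) with hα
  set β := a * (d' * k) - b * (c' * k) with hβ
  have hRw : (R : Mat) *ᵥ w = α • v + β • w := by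
    rw [e2, ← hk, hv, hw, T.vec_smul, T.vec_smul, T.vec_add, hα, hβ]
    congr 1
    · match_scalars
      linear_combination -(c' * k) * hcd
    · match_scalars
      linear_combination -(d' * k) * hcd
  have hβ1 : β = 1 := by
    have e := mem_spGL_iff.mp (hM.le hR) v w
    rw [hvp, hRw, w_add_right, w_smul_right, w_smul_right, w_self, hvw, mul_zero, zero_add] at e
    exact mul_right_cancel₀ hz (by rw [e, one_mul])
  have hdiff : (R : Mat) *ᵥ w - w = α • v := by rw [hRw, hβ1, one_smul, add_sub_cancel_right]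
  obtain ⟨hwp, hwq⟩ := hRx.orth h2 hpq
    (by rw [hdiff, w_smul_left, hp, mul_zero]) (by rw [hdiff, w_smul_left, hq', mul_zero])
  have e0 : T.vec z 0 = d • v - b • w := by
    rw [hv, hw, T.vec_smul, T.vec_smul, T.vec_sub]
    congr 1
    · match_scalars; linear_combination -hcd
    · match_scalars; ring
  have e0' : T.vec 0 z = a • w - c • v := by
    rw [hv, hw, T.vec_smul, T.vec_smul, T.vec_sub]
    congr 1
    · match_scalars; ring
    · match_scalars; linear_combination -hcd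
  refine perpPlane_of z ⟨?_, ?_, ?_, ?_⟩
  · rw [e0, w_sub_left, w_smul_left, w_smul_left, hp, hwp]; ring
  · rw [e0, w_sub_left, w_smul_left, w_smul_left, hq', hwq]; ring
  · rw [e0', w_sub_left, w_smul_left, w_smul_left, hp, hwp]; ring
  · rw [e0', w_sub_left, w_smul_left, w_smul_left, hq', hwq]; ring

theorem PerpPlane.comp {z x y : W} {q : V} (h : PerpPlane T z (T.vec x y) q) :
    T.B x z = 0 ∧ T.B y z = 0 := by
  have h1 := (h 1 0).1
  have h2 := (h 0 1).1
  rw [one_smul, zero_smul] at h1 h2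
  rw [T.form_vec] at h1 h2
  simp at h1 h2
  exact ⟨h2, by rw [T.symm]; exact h1⟩

theorem PerpPlane.swap {z : W} {p q : V} (h : PerpPlane T z p q) : PerpPlane T z q p :=
  fun a b => ⟨(h a b).2, (h a b).1⟩

/-- A plane orthogonal to two orthogonal pure anisotropic planes is pure. -/
theorem pure_of_two_perp {p q : V} {z y : W} (hz : T.B z z ≠ 0) (hy : T.B y y ≠ 0) (hyz : T.B y z = 0)
    (h1 : PerpPlane T z p q) (h2 : PerpPlane T y p q) : T.IsPure p q := by
  obtain ⟨w, hw, hwz, hwy, hspan⟩ := T.exists_orth hz hy hyz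
  have hzy : T.B z y = 0 := by rw [T.symm, hyz]
  have key : ∀ x, T.B x z = 0 → T.B x y = 0 → ∃ k : F, x = k • w := by
    intro x h3 h4
    obtain ⟨a, b, c, rfl⟩ := hspan x
    simp [hwz, hyz, hz] at h3
    simp [hwy, hzy, hy] at h4
    exact ⟨c, by rw [h3, h4]; simp⟩
  obtain ⟨x, x', rfl⟩ := T.vec_surj p
  obtain ⟨u, u', rfl⟩ := T.vec_surj q
  obtain ⟨k₁, rfl⟩ := key x h1.comp.1 h2.comp.1
  obtain ⟨k₂, rfl⟩ := key x' h1.comp.2 h2.comp.2
  obtain ⟨k₃, rfl⟩ := key u h1.swap.comp.1 h2.swap.comp.1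
  obtain ⟨k₄, rfl⟩ := key u' h1.swap.comp.2 h2.swap.comp.2
  exact ⟨w, k₁, k₂, k₃, k₄, rfl, rfl⟩

/-- A reflection acting on `F² ⊗ y` as a scalar plus a scalar multiple of `y'` forces a pure plane. -/
theorem pureTv_of_scalar (hM : T.Over M) (h2 : (2 : F) ≠ 0) (hq : 5 ≤ Fintype.card F) {p q : V}
    (hpq : ω p q ≠ 0) (hnp : ¬ T.IsPure p q) {R : GL (Fin 3 ⊕ Fin 3) F} (hR : R ∈ M)
    (hRx : IsRefl R p q) {z y y' : W} (hz : T.B z z ≠ 0) (hy : T.B y y ≠ 0) (hyz : T.B y z = 0)
    (hy'z : T.B y' z = 0) (hy'y : T.B y' y = 0) (hperp : PerpPlane T z p q) {κ a : F} (hκ : κ ≠ -1)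
    (ha : a ≠ 0) (h1 : (R : Mat) *ᵥ T.vec y 0 = T.vec (κ • y + a • y') 0)
    (h1' : (R : Mat) *ᵥ T.vec 0 y = T.vec 0 (κ • y + a • y')) : T.PureTv M := by
  set y'' := (1 + κ) • y + a • y' with hy''
  have hyy' : T.B y y' = 0 := by rw [T.symm, hy'y]
  have hk1 : 1 + κ ≠ 0 := fun h => hκ (by linear_combination h)
  have hf := mem_spGL_iff.mp (hM.le hR)
  -- the image of `e y'`
  have h2' : (R : Mat) *ᵥ T.vec y' 0 = T.vec (((1 - κ * κ) / a) • y + (-κ) • y') 0 := by
    have e : T.vec y' 0 = a⁻¹ • (T.vec (κ • y + a • y') 0 - κ • T.vec y 0) := by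
      rw [T.vec_smul, T.vec_sub, T.vec_smul]
      congr 1
      · match_scalars <;> field_simp <;> ring
      · simp
    have h' := hRx.invol hpq (T.vec y 0)
    rw [h1] at h'
    rw [e, mulVec_smul, mulVec_sub, mulVec_smul, h', h1, T.vec_smul, T.vec_sub, T.vec_smul]
    congr 1
    · match_scalars <;> field_simp <;> ring
    · simp
  have hfix : (R : Mat) *ᵥ T.vec y'' 0 = T.vec y'' 0 := by
    rw [hy'', show T.vec ((1 + κ) • y + a • y') 0 = (1 + κ) • T.vec y 0 + a • T.vec y' 0 by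
      rw [T.vec_smul, T.vec_smul, T.vec_add]; simp, mulVec_add, mulVec_smul, mulVec_smul, h1, h2',
      T.vec_smul, T.vec_smul, T.vec_smul, T.vec_smul, T.vec_add, T.vec_add]
    congr 1
    match_scalars <;> field_simp <;> ring
  obtain ⟨hp', hq'⟩ := hRx.orth h2 hpq (x := T.vec y'' 0)
    (by rw [hfix, sub_self, sesq_sympForm.zero_left]) (by rw [hfix, sub_self, sesq_sympForm.zero_left])
  have hy''z : T.B y'' z = 0 := by simp [hy'', hyz, hy'z]
  -- the value of `y''`
  have hval : T.B y y = κ * κ * T.B y y + a * a * T.B y' y' := by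
    have h3 := hf (T.vec y 0) (T.vec 0 y)
    rw [h1, h1'] at h3
    simp [T.form_vec, hy'y, hyy'] at h3
    linear_combination -h3
  have hn : T.B y'' y'' ≠ 0 := by
    simp [hy'', hy'y, hyy']
    intro h
    have : (2 * (1 + κ)) * T.B y y = 0 := by linear_combination h + hval
    simp [h2, hk1, hy] at this
  rcases pureTv_or_perp hM h2 hq ⟨hpq, R, hR, hRx⟩ hn (a := 1) (b := 0) (Or.inl one_ne_zero)
    (by simpa using hp') (by simpa using hq') with h | h
  · exact h
  · exact absurd (pure_of_two_perp hz hn hy''z hperp h) hnp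

end TFrame

end CfsgLib.SpSix
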